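import Mathlib
import Cfsg.Agent.Schur.Alternating

/-!
# Three-cycles and supports in alternating groups
-/

set_option autoImplicit false
set_option linter.unusedSectionVars false
set_option linter.style.haveILetI false

namespace Cfsg.Lib.AltMinDim

open Equiv

/-- The alternating group on `r` points. -/
abbrev Alt (r : ℕ) : Type := ↥(alternatingGroup (Fin r))

variable {r : ℕ}

/-- The three-cycle `a ↦ b ↦ c ↦ a`. -/
def c3 (a b c : Fin r) : Alt r :=
  if h : a ≠ b ∧ a ≠ c then ⟨Schur.Alt.cyc a b c, Schur.Alt.cyc_mem a b c h.1 h.2⟩ else 1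

theorem c3_val {a b c : Fin r} (hab : a ≠ b) (hac : a ≠ c) :
    ((c3 a b c : Alt r) : Perm (Fin r)) = Schur.Alt.cyc a b c := by
  rw [c3, dif_pos ⟨hab, hac⟩]

theorem c3_apply₁ {a b c : Fin r} (hab : a ≠ b) (hac : a ≠ c) (hbc : b ≠ c) : (c3 a b c).1 a = b := by
  rw [c3_val hab hac]; exact Schur.Alt.cyc_apply₁ hab hbc

theorem c3_apply₂ {a b c : Fin r} (hab : a ≠ b) (hac : a ≠ c) : (c3 a b c).1 b = c := by
  rw [c3_val hab hac]; exact Schur.Alt.cyc_apply₂ a b c

theorem c3_apply₃ {a b c : Fin r} (hab : a ≠ b) (hac : a ≠ c) (hbc : b ≠ c) : (c3 a b c).1 c = a := by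
  rw [c3_val hab hac]; exact Schur.Alt.cyc_apply₃ hac hbc

theorem c3_apply_ne {a b c x : Fin r} (ha : x ≠ a) (hb : x ≠ b) (hc : x ≠ c) : (c3 a b c).1 x = x := by
  by_cases h : a ≠ b ∧ a ≠ c
  · rw [c3_val h.1 h.2]; exact Schur.Alt.cyc_apply_ne ha hb hc
  · rw [c3, dif_neg h]; rfl

theorem c3_conj (g : Alt r) (a b c : Fin r) : g * c3 a b c * g⁻¹ = c3 (g.1 a) (g.1 b) (g.1 c) := by
  by_cases h : a ≠ b ∧ a ≠ c
  · apply Subtype.ext
    rw [c3_val (g.1.injective.ne h.1) (g.1.injective.ne h.2)]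
    show g.1 * (c3 a b c).1 * g.1⁻¹ = _
    rw [c3_val h.1 h.2]
    exact Schur.Alt.conj_cyc g.1 a b c
  · have h' : ¬ (g.1 a ≠ g.1 b ∧ g.1 a ≠ g.1 c) := by
      simpa [g.1.injective.ne_iff] using h
    rw [c3, c3, dif_neg h, dif_neg h', mul_one, mul_inv_cancel]

theorem c3_rotate {a b c : Fin r} (hab : a ≠ b) (hac : a ≠ c) (hbc : b ≠ c) : c3 b c a = c3 a b c := by
  apply Subtype.ext
  ext x
  by_cases ha : x = a
  · rw [ha, c3_apply₁ hab hac hbc, c3_apply₃ hbc hab.symm hac.symm]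
  by_cases hb : x = b
  · rw [hb, c3_apply₂ hab hac, c3_apply₁ hbc hab.symm hac.symm]
  by_cases hc : x = c
  · rw [hc, c3_apply₃ hab hac hbc, c3_apply₂ hbc hab.symm]
  rw [c3_apply_ne ha hb hc, c3_apply_ne hb hc ha]

theorem c3_inv {a b c : Fin r} (hab : a ≠ b) (hac : a ≠ c) (hbc : b ≠ c) : (c3 a b c)⁻¹ = c3 a c b := by
  apply inv_eq_of_mul_eq_one_right
  apply Subtype.ext
  ext x
  show ((c3 a b c).1 ((c3 a c b).1 x) : Fin r).val = x.val
  by_cases ha : x = a
  · rw [ha, c3_apply₁ hac hab hbc.symm, c3_apply₃ hab hac hbc]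
  by_cases hb : x = b
  · rw [hb, c3_apply₃ hac hab hbc.symm, c3_apply₁ hab hac hbc]
  by_cases hc : x = c
  · rw [hc, c3_apply₂ hac hab, c3_apply₂ hab hac]
  rw [c3_apply_ne ha hc hb, c3_apply_ne ha hb hc]

theorem eq_c3_of_isThreeCycle {σ : Alt r} (h : σ.1.IsThreeCycle) :
    ∃ a b c, a ≠ b ∧ a ≠ c ∧ b ≠ c ∧ σ = c3 a b c := by
  obtain ⟨a, ha⟩ : ∃ a, σ.1 a ≠ a := by
    by_contra hno
    push Not at hno
    exact h.ne_one (Equiv.ext hno)
  have hcyc := h.isCycle
  have h3 : σ.1 ^ 3 = 1 := by rw [← h.orderOf]; exact pow_orderOf_eq_one _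
  have hfix : σ.1 (σ.1 (σ.1 a)) = a := by
    have := congrArg (fun e : Perm (Fin r) => e a) h3
    simpa [pow_succ, Perm.mul_apply] using this
  have hab : a ≠ σ.1 a := fun e => ha e.symm
  have hbc : σ.1 a ≠ σ.1 (σ.1 a) := fun e => hab (σ.1.injective e)
  have hac : a ≠ σ.1 (σ.1 a) := fun e => by
    rw [← e] at hfix
    exact ha hfix
  refine ⟨a, σ.1 a, σ.1 (σ.1 a), hab, hac, hbc, Subtype.ext (Equiv.ext fun x => ?_)⟩
  by_cases hx : σ.1 x = x
  · rw [hx, c3_apply_ne]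
    · rintro rfl; exact ha hx
    · rintro rfl; exact ha (σ.1.injective hx)
    · rintro rfl; exact ha (σ.1.injective (σ.1.injective hx))
  obtain ⟨i, hi⟩ := hcyc.exists_pow_eq ha hx
  have hlt : i % 3 < 3 := Nat.mod_lt _ (by norm_num)
  have hix : x = (σ.1 ^ (i % 3)) a := by
    rw [← hi, ← h.orderOf, pow_mod_orderOf]
  rw [hix]
  rcases (show i % 3 = 0 ∨ i % 3 = 1 ∨ i % 3 = 2 by omega) with e | e | e <;> rw [e]
  · rw [pow_zero, Perm.one_apply, c3_apply₁ hab hac hbc]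
  · rw [pow_one, c3_apply₂ hab hac]
  · rw [pow_two, Perm.mul_apply, c3_apply₃ hab hac hbc, hfix]

/-- The subgroup contains all three-cycles on a set of points. -/
def CycOn (S : Subgroup (Alt r)) (X : Finset (Fin r)) : Prop :=
  ∀ a ∈ X, ∀ b ∈ X, ∀ c ∈ X, a ≠ b → a ≠ c → b ≠ c → c3 a b c ∈ S

theorem CycOn.mono {S : Subgroup (Alt r)} {X Y : Finset (Fin r)} (h : CycOn S X) (hYX : Y ⊆ X) : CycOn S Y :=
  fun a ha b hb c hc => h a (hYX ha) b (hYX hb) c (hYX hc)

theorem CycOn.insert_step {S : Subgroup (Alt r)} {X : Finset (Fin r)} {z b : Fin r} (h : CycOn S X)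
    (h3 : 3 ≤ X.card) (hz : z ∈ X) (hb : b ∉ X) (h' : CycOn S (insert b (X.erase z))) :
    CycOn S (insert b X) := by
  intro u hu v hv w hw huv huw hvw
  by_cases hnb : u ≠ b ∧ v ≠ b ∧ w ≠ b
  · exact h u (Finset.mem_of_mem_insert_of_ne hu hnb.1) v (Finset.mem_of_mem_insert_of_ne hv hnb.2.1)
      w (Finset.mem_of_mem_insert_of_ne hw hnb.2.2) huv huw hvw
  by_cases hnz : u ≠ z ∧ v ≠ z ∧ w ≠ z
  · have key : ∀ t ∈ insert b X, t ≠ z → t ∈ insert b (X.erase z) := by
      intro t ht htz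
      simp only [Finset.mem_insert, Finset.mem_erase] at ht ⊢
      tauto
    exact h' u (key u hu hnz.1) v (key v hv hnz.2.1) w (key w hw hnz.2.2) huv huw hvw
  have hzb : z ≠ b := fun e => hb (e ▸ hz)
  obtain ⟨x, hx, hxz, hall⟩ : ∃ x, x ∈ X ∧ x ≠ z ∧
      ∀ t, (t = u ∨ t = v ∨ t = w) → t = z ∨ t = b ∨ t = x := by
    simp only [Finset.mem_insert] at hu hv hw
    by_cases hu' : u ≠ z ∧ u ≠ b
    · exact ⟨u, hu.resolve_left hu'.2, hu'.1, fun t ht => by grind⟩
    by_cases hv' : v ≠ z ∧ v ≠ b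
    · exact ⟨v, hv.resolve_left hv'.2, hv'.1, fun t ht => by grind⟩
    refine ⟨w, hw.resolve_left ?_, ?_, fun t ht => by grind⟩ <;> grind
  obtain ⟨y, hy, hyzx⟩ : ∃ y ∈ X, y ∉ ({z, x} : Finset (Fin r)) :=
    Finset.exists_mem_notMem_of_card_lt_card (lt_of_le_of_lt Finset.card_le_two (by omega))
  simp only [Finset.mem_insert, Finset.mem_singleton, not_or] at hyzx
  obtain ⟨hyz, hyx⟩ := hyzx
  have hg : c3 y x z ∈ S := h y hy x hx z hz hyx hyz hxz
  set g := c3 y x z with hgdef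
  have hxb : x ≠ b := fun e => hb (e ▸ hx)
  have hyb : y ≠ b := fun e => hb (e ▸ hy)
  have hpre : ∀ t, (t = u ∨ t = v ∨ t = w) → g.1⁻¹ t ∈ insert b (X.erase z) := by
    intro t ht
    rw [Finset.mem_insert, Finset.mem_erase]
    rcases hall t ht with rfl | rfl | rfl
    · right
      rw [show g.1⁻¹ t = x from Perm.inv_eq_iff_eq.mpr (by rw [hgdef, c3_apply₂ hyx hyz])]
      exact ⟨hxz, hx⟩
    · left
      exact Perm.inv_eq_iff_eq.mpr (by rw [hgdef, c3_apply_ne hyb.symm hxb.symm hzb.symm])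
    · right
      rw [show g.1⁻¹ t = y from Perm.inv_eq_iff_eq.mpr (by rw [hgdef, c3_apply₁ hyx hyz hxz])]
      exact ⟨hyz, hy⟩
  have hmem := h' _ (hpre u (Or.inl rfl)) _ (hpre v (Or.inr (Or.inl rfl))) _ (hpre w (Or.inr (Or.inr rfl)))
    (g.1⁻¹.injective.ne huv) (g.1⁻¹.injective.ne huw) (g.1⁻¹.injective.ne hvw)
  have h2 := mul_mem (mul_mem hg hmem) (inv_mem hg)
  rw [c3_conj] at h2
  simpa using h2

/-- Two overlapping sets of three-cycles generate those of the union. -/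
theorem CycOn.union {S : Subgroup (Alt r)} {X Y : Finset (Fin r)} (hX : CycOn S X) (hY : CycOn S Y)
    (h3 : 3 ≤ X.card) (hY3 : 3 ≤ Y.card) (hXY : (X ∩ Y).Nonempty) : CycOn S (X ∪ Y) := by
  obtain ⟨c, hc⟩ := hXY
  rw [Finset.mem_inter] at hc
  suffices H : ∀ W ⊆ Y, CycOn S (X ∪ W) from H Y subset_rfl
  intro W
  induction W using Finset.induction_on with
  | empty => intro _; rwa [Finset.union_empty]
  | @insert b W hbW ih =>
    intro hsub
    have hb : b ∈ Y := hsub (Finset.mem_insert_self b W)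
    have hW := ih fun t ht => hsub (Finset.mem_insert_of_mem ht)
    rw [Finset.union_insert]
    by_cases hbX : b ∈ X ∪ W
    · rwa [Finset.insert_eq_of_mem hbX]
    set Q := X ∪ W
    have hcQ : c ∈ Q := Finset.mem_union_left _ hc.1
    have hcb : c ≠ b := fun e => hbX (e ▸ hcQ)
    obtain ⟨b', hb', hne⟩ : ∃ t ∈ Y, t ∉ ({c, b} : Finset (Fin r)) :=
      Finset.exists_mem_notMem_of_card_lt_card (lt_of_le_of_lt Finset.card_le_two (by omega))
    simp only [Finset.mem_insert, Finset.mem_singleton, not_or] at hne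
    obtain ⟨hb'c, hb'b⟩ := hne
    have hg : c3 c b b' ∈ S := hY c hc.2 b hb b' hb' hcb (Ne.symm hb'c) (Ne.symm hb'b)
    set g := c3 c b b' with hgdef
    have hcard : 3 ≤ Q.card := h3.trans (Finset.card_le_card Finset.subset_union_left)
    have himg : CycOn S (Q.image fun t => g.1 t) := by
      intro u hu v hv w hw huv huw hvw
      obtain ⟨u', hu', rfl⟩ := Finset.mem_image.mp hu
      obtain ⟨v', hv', rfl⟩ := Finset.mem_image.mp hv
      obtain ⟨w', hw', rfl⟩ := Finset.mem_image.mp hw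
      rw [← c3_conj]
      exact mul_mem (mul_mem hg (hW u' hu' v' hv' w' hw' (fun e => huv (e ▸ rfl)) (fun e => huw (e ▸ rfl))
        fun e => hvw (e ▸ rfl))) (inv_mem hg)
    have gc : g.1 c = b := c3_apply₁ hcb (Ne.symm hb'c) (Ne.symm hb'b)
    have gb' : g.1 b' = c := c3_apply₃ hcb (Ne.symm hb'c) (Ne.symm hb'b)
    have gne : ∀ t ∈ Q, t ≠ c → t ≠ b' → g.1 t = t := fun t ht h1 h2 =>
      c3_apply_ne h1 (fun e => hbX (e ▸ ht)) h2
    by_cases hb'Q : b' ∈ Q
    · refine hW.insert_step hcard hb'Q hbX (himg.mono ?_)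
      intro t ht
      simp only [Finset.mem_insert, Finset.mem_erase] at ht
      rw [Finset.mem_image]
      rcases ht with rfl | ⟨h1, h2⟩
      · exact ⟨c, hcQ, gc⟩
      · by_cases htc : t = c
        · exact ⟨b', hb'Q, gb'.trans htc.symm⟩
        · exact ⟨t, h2, gne t h2 htc h1⟩
    · refine hW.insert_step hcard hcQ hbX (himg.mono ?_)
      intro t ht
      simp only [Finset.mem_insert, Finset.mem_erase] at ht
      rw [Finset.mem_image]
      rcases ht with rfl | ⟨h1, h2⟩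
      · exact ⟨c, hcQ, gc⟩
      · exact ⟨t, h2, gne t h2 h1 fun e => hb'Q (e ▸ h2)⟩

/-- A subgroup containing all three-cycles on a set contains all even permutations supported there. -/
theorem CycOn.mem {S : Subgroup (Alt r)} {X : Finset (Fin r)} (h : CycOn S X) (g : Alt r)
    (hg : ∀ x, x ∉ X → g.1 x = x) : g ∈ S := by
  classical
  have hiff : ∀ x, g.1 x ∈ X ↔ x ∈ X := fun x => by
    constructor
    · intro hx; by_contra hc; rw [hg x hc] at hx; exact hc hx
    · intro hx; by_contra hc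
      have := g.1.injective (hg _ hc)
      exact hc (this.symm ▸ hx)
  set σ : Perm {x // x ∈ X} := g.1.subtypePerm hiff with hσdef
  have hσg : Perm.ofSubtype σ = g.1 :=
    Perm.ofSubtype_subtypePerm _ fun x hx => by by_contra hc; exact hx (hg x hc)
  have hσ : σ ∈ alternatingGroup {x // x ∈ X} := by
    rw [Perm.mem_alternatingGroup, ← Perm.sign_ofSubtype, hσg]
    exact Perm.mem_alternatingGroup.mp g.2
  rw [← Perm.closure_three_cycles_eq_alternating] at hσ
  let T : Subgroup (Perm (Fin r)) := S.map (alternatingGroup (Fin r)).subtype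
  have hle : Subgroup.closure {σ : Perm {x // x ∈ X} | σ.IsThreeCycle} ≤
      T.comap (Perm.ofSubtype) := by
    rw [Subgroup.closure_le]
    intro τ hτ
    have hτA : τ ∈ alternatingGroup {x // x ∈ X} := hτ.mem_alternatingGroup
    have hA : Perm.ofSubtype τ ∈ alternatingGroup (Fin r) := by
      rw [Perm.mem_alternatingGroup, Perm.sign_ofSubtype]
      exact Perm.mem_alternatingGroup.mp hτA
    have h3 : (Perm.ofSubtype τ).IsThreeCycle := by
      rw [Perm.IsThreeCycle, Perm.cycleType_ofSubtype]; exact hτ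
    obtain ⟨a, b, c, hab, hac, hbc, he⟩ := eq_c3_of_isThreeCycle (σ := ⟨_, hA⟩) h3
    have hmem : ∀ t, (c3 a b c).1 t ≠ t → t ∈ X := by
      intro t ht
      by_contra hc
      rw [← he] at ht
      exact ht (Perm.ofSubtype_apply_of_not_mem τ hc)
    refine ⟨⟨_, hA⟩, ?_, rfl⟩
    rw [he]
    refine h a (hmem a ?_) b (hmem b ?_) c (hmem c ?_) hab hac hbc
    · rw [c3_apply₁ hab hac hbc]; exact hab.symm
    · rw [c3_apply₂ hab hac]; exact hbc.symm
    · rw [c3_apply₃ hab hac hbc]; exact hac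
  obtain ⟨g', hg', he⟩ := hle hσ
  rw [hσg] at he
  rwa [show g = g' from Subtype.ext he.symm]

theorem CycOn.eq_top {S : Subgroup (Alt r)} (h : CycOn S Finset.univ) : S = ⊤ :=
  eq_top_iff.mpr fun g _ => h.mem g fun x hx => absurd (Finset.mem_univ x) hx

/-- An even permutation of few points transported along an embedding. -/
noncomputable def viaPerm {m : ℕ} (ι : Fin m ↪ Fin r) (σ : Perm (Fin m)) (h : Perm.sign σ = 1) : Alt r :=
  ⟨σ.viaEmbedding ι, by
    rw [Perm.mem_alternatingGroup, Perm.viaEmbedding, Perm.sign_extendDomain, h]⟩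

theorem viaPerm_apply {m : ℕ} (ι : Fin m ↪ Fin r) (σ : Perm (Fin m)) (h : Perm.sign σ = 1) (i : Fin m) :
    (viaPerm ι σ h).1 (ι i) = ι (σ i) := Perm.viaEmbedding_apply σ ι i

theorem viaPerm_apply_out {m : ℕ} (ι : Fin m ↪ Fin r) (σ : Perm (Fin m)) (h : Perm.sign σ = 1) {x : Fin r}
    (hx : x ∉ Set.range ι) : (viaPerm ι σ h).1 x = x := Perm.viaEmbedding_apply_of_notMem σ ι x hx

theorem viaPerm_mul {m : ℕ} (ι : Fin m ↪ Fin r) (σ τ : Perm (Fin m)) (h : Perm.sign σ = 1) (h' : Perm.sign τ = 1) :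
    viaPerm ι σ h * viaPerm ι τ h' = viaPerm ι (σ * τ) (by rw [map_mul, h, h', mul_one]) :=
  Subtype.ext ((map_mul (Perm.viaEmbeddingHom ι) σ τ).symm)

/-- Any two tuples can be matched by an even permutation when two points are spare. -/
theorem exists_map {m : ℕ} (u v : Fin m → Fin r) (hu : Function.Injective u) (hv : Function.Injective v)
    (hm : m + 2 ≤ r) : ∃ g : Alt r, ∀ i, g.1 (u i) = v i := by
  classical
  let e : {x // x ∈ Set.range u} ≃ {x // x ∈ Set.range v} :=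
    (Equiv.ofInjective u hu).symm.trans (Equiv.ofInjective v hv)
  let π : Perm (Fin r) := e.extendSubtype
  have hπ : ∀ i, π (u i) = v i := fun i => by
    show e.extendSubtype (u i) = _
    rw [Equiv.extendSubtype_apply_of_mem _ _ ⟨i, rfl⟩]
    show ((Equiv.ofInjective v hv) ((Equiv.ofInjective u hu).symm ⟨u i, i, rfl⟩)).1 = _
    rw [show (⟨u i, i, rfl⟩ : Set.range u) = Equiv.ofInjective u hu i from rfl, Equiv.symm_apply_apply]
    rfl
  obtain ⟨x, y, hx, hy, hxy⟩ := Schur.Alt.exists_two_outside (Finset.univ.image v) (by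
    rw [Finset.card_image_of_injective _ hv, Finset.card_univ, Fintype.card_fin]; exact hm)
  simp only [Finset.mem_image, Finset.mem_univ, true_and, not_exists] at hx hy
  rcases Int.units_eq_one_or (Perm.sign π) with h | h
  · exact ⟨⟨π, Perm.mem_alternatingGroup.mpr h⟩, hπ⟩
  · refine ⟨⟨Equiv.swap x y * π, Perm.mem_alternatingGroup.mpr ?_⟩, fun i => ?_⟩
    · rw [map_mul, Perm.sign_swap hxy, h]; decide
    · show Equiv.swap x y (π (u i)) = v i
      rw [hπ, Equiv.swap_apply_of_ne_of_ne (hx i) (hy i)]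

end Cfsg.Lib.AltMinDim
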