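import Mathlib
import Cfsg.Agent.Known.AltMinDim.Perms

/-!
# Recognising the deleted permutation module

A nontrivial irreducible representation of an alternating group in which disjoint three-cycles act on
independent parts has dimension at least that of the deleted permutation module.
-/

set_option autoImplicit false
set_option linter.unusedSectionVars false
set_option linter.style.haveILetI false

namespace Cfsg.Lib.AltMinDim

open Equiv

variable {r : ℕ} {k : Type*} [Field k] {V : Type*} [AddCommGroup V] [Module k V]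
  (ρ : Alt r →* Module.End k V)

theorem rho_inv_apply (g : Alt r) (v : V) : ρ g⁻¹ (ρ g v) = v := by
  rw [← Module.End.mul_apply, ← map_mul, inv_mul_cancel, map_one, Module.End.one_apply]

theorem rho_mul_apply (g h : Alt r) (v : V) : ρ (g * h) v = ρ g (ρ h v) := by
  rw [map_mul, Module.End.mul_apply]

/-- The elements fixing a subspace pointwise. -/
def fixer (W : Submodule k V) : Subgroup (Alt r) where
  carrier := {g | ∀ w ∈ W, ρ g w = w}
  one_mem' := fun w _ => by rw [map_one, Module.End.one_apply]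
  mul_mem' := fun {g h} hg hh w hw => by rw [rho_mul_apply, hh w hw, hg w hw]
  inv_mem' := fun {g} hg w hw => by
    conv_lhs => rw [← hg w hw]
    exact rho_inv_apply ρ g w

/-- The elements stabilising a subspace. -/
def stab (W : Submodule k V) : Subgroup (Alt r) where
  carrier := {g | (∀ w ∈ W, ρ g w ∈ W) ∧ ∀ w ∈ W, ρ g⁻¹ w ∈ W}
  one_mem' := ⟨fun w hw => by rwa [map_one, Module.End.one_apply],
    fun w hw => by rwa [inv_one, map_one, Module.End.one_apply]⟩
  mul_mem' := fun {g h} hg hh => ⟨fun w hw => by rw [rho_mul_apply]; exact hg.1 _ (hh.1 w hw),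
    fun w hw => by rw [mul_inv_rev, rho_mul_apply]; exact hh.2 _ (hg.2 w hw)⟩
  inv_mem' := fun {g} hg => ⟨hg.2, fun w hw => by rw [inv_inv]; exact hg.1 w hw⟩

theorem fixer_le_stab (W : Submodule k V) : fixer ρ W ≤ stab ρ W := fun g hg =>
  ⟨fun w hw => by rw [hg w hw]; exact hw, fun w hw => by rw [inv_mem hg w hw]; exact hw⟩

/-- The moved space of the three-cycles on a set of points. -/
def moved (X : Finset (Fin r)) : Submodule k V :=
  ⨆ (a ∈ X) (b ∈ X) (c ∈ X) (_ : a ≠ b ∧ a ≠ c ∧ b ≠ c), LinearMap.range (ρ (c3 a b c) - 1)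

theorem sub_mem_moved {X : Finset (Fin r)} {a b c : Fin r} (ha : a ∈ X) (hb : b ∈ X) (hc : c ∈ X)
    (hab : a ≠ b) (hac : a ≠ c) (hbc : b ≠ c) (v : V) : ρ (c3 a b c) v - v ∈ moved ρ X :=
  le_iSup₂_of_le (f := fun a _ => ⨆ (b ∈ X) (c ∈ X) (_ : a ≠ b ∧ a ≠ c ∧ b ≠ c),
      LinearMap.range (ρ (c3 a b c) - 1)) a ha
    (le_iSup₂_of_le b hb (le_iSup₂_of_le c hc (le_iSup_of_le ⟨hab, hac, hbc⟩ le_rfl)))
    ⟨v, rfl⟩

theorem moved_le {X : Finset (Fin r)} {W : Submodule k V}
    (h : ∀ a ∈ X, ∀ b ∈ X, ∀ c ∈ X, a ≠ b → a ≠ c → b ≠ c → ∀ v, ρ (c3 a b c) v - v ∈ W) :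
    moved ρ X ≤ W := by
  refine iSup₂_le fun a ha => iSup₂_le fun b hb => iSup₂_le fun c hc => iSup_le fun hd => ?_
  rintro _ ⟨v, rfl⟩
  exact h a ha b hb c hc hd.1 hd.2.1 hd.2.2 v

theorem moved_mono {X Y : Finset (Fin r)} (h : X ⊆ Y) : moved ρ X ≤ moved ρ Y :=
  moved_le ρ fun a ha b hb c hc hab hac hbc v => sub_mem_moved ρ (h ha) (h hb) (h hc) hab hac hbc v

theorem cycOn_stab_of_moved_le {X : Finset (Fin r)} {W : Submodule k V} (h : moved ρ X ≤ W) :
    CycOn (stab ρ W) X := by
  intro a ha b hb c hc hab hac hbc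
  refine ⟨fun w hw => ?_, fun w hw => ?_⟩
  · rw [← sub_add_cancel (ρ (c3 a b c) w) w]
    exact add_mem (h (sub_mem_moved ρ ha hb hc hab hac hbc w)) hw
  · rw [c3_inv hab hac hbc, ← sub_add_cancel (ρ (c3 a c b) w) w]
    exact add_mem (h (sub_mem_moved ρ ha hc hb hac hab hbc.symm w)) hw

theorem rho_mem_moved_image {X : Finset (Fin r)} (g : Alt r) {v : V} (hv : v ∈ moved ρ X) :
    ρ g v ∈ moved ρ (X.image fun t => g.1 t) := by
  have h : moved ρ X ≤ (moved ρ (X.image fun t => g.1 t)).comap (ρ g) := by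
    refine moved_le ρ fun a ha b hb c hc hab hac hbc u => ?_
    rw [Submodule.mem_comap, map_sub, ← rho_mul_apply,
      show g * c3 a b c = c3 (g.1 a) (g.1 b) (g.1 c) * g by rw [← c3_conj, inv_mul_cancel_right],
      rho_mul_apply]
    exact sub_mem_moved ρ (Finset.mem_image_of_mem _ ha) (Finset.mem_image_of_mem _ hb)
      (Finset.mem_image_of_mem _ hc) (g.1.injective.ne hab) (g.1.injective.ne hac) (g.1.injective.ne hbc) _
  exact h hv

/-- The hypotheses on the representation. -/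
structure Disjointly : Prop where
  irred : ∀ W : Submodule k V, (∀ g, ∀ w ∈ W, ρ g w ∈ W) → W = ⊥ ∨ W = ⊤
  nontriv : ρ ≠ 1
  disj : ∀ a b c d e f : Fin r, [a, b, c, d, e, f].Nodup → ∀ v : V,
    ρ (c3 d e f) (ρ (c3 a b c) v - v) = ρ (c3 a b c) v - v

variable {ρ}

theorem Disjointly.no_fixed (hρ : Disjointly ρ) {W : Submodule k V} (h : fixer ρ W = ⊤) : W = ⊥ := by
  rw [Submodule.eq_bot_iff]
  intro w hw
  let F : Submodule k V :=
    { carrier := {v | ∀ g, ρ g v = v}
      zero_mem' := fun g => map_zero _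
      add_mem' := fun {u v} hu hv g => by rw [map_add, hu g, hv g]
      smul_mem' := fun c {v} hv g => by rw [map_smul, hv g] }
  have hwF : w ∈ F := fun g => (h ▸ Subgroup.mem_top g : g ∈ fixer ρ W) w hw
  rcases hρ.irred F (fun g v hv g' => by rw [hv g, hv g']) with hb | ht
  · exact (Submodule.eq_bot_iff F).mp hb w hwF
  · exact absurd (MonoidHom.ext fun g => LinearMap.ext fun v =>
      ((ht ▸ Submodule.mem_top : v ∈ F) g).trans (Module.End.one_apply v).symm) hρ.nontriv

theorem Disjointly.c3_ne_one (hρ : Disjointly ρ) (hr : 5 ≤ r) {a b c : Fin r} (hab : a ≠ b) (hac : a ≠ c)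
    (hbc : b ≠ c) : ρ (c3 a b c) ≠ 1 := by
  intro h
  apply hρ.nontriv
  refine MonoidHom.ext fun g => ?_
  have htop : ρ.ker = ⊤ := by
    apply CycOn.eq_top
    intro u _ v _ w _ huv huw hvw
    obtain ⟨g, hg⟩ := exists_map ![a, b, c] ![u, v, w] (by
      intro i j hij; fin_cases i <;> fin_cases j <;> simp_all [eq_comm]) (by
      intro i j hij; fin_cases i <;> fin_cases j <;> simp_all [eq_comm]) (by omega)
    have e := c3_conj g a b c
    rw [show g.1 a = u from hg 0, show g.1 b = v from hg 1, show g.1 c = w from hg 2] at e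
    rw [MonoidHom.mem_ker, ← e, map_mul, map_mul, h, mul_one, ← map_mul, mul_inv_cancel, map_one]
  exact (MonoidHom.mem_ker.mp (htop ▸ Subgroup.mem_top g)).trans rfl

theorem Disjointly.cycOn_fixer (hρ : Disjointly ρ) {X Y : Finset (Fin r)} (h : Disjoint X Y) :
    CycOn (fixer ρ (moved ρ X)) Y := by
  intro d hd e he f hf hde hdf hef w hw
  have hle : moved ρ X ≤ LinearMap.ker (ρ (c3 d e f) - 1) := by
    refine moved_le ρ fun a ha b hb c hc hab hac hbc v => ?_
    have hne : ∀ s ∈ X, ∀ t ∈ Y, s ≠ t := fun s hs t ht e => Finset.disjoint_left.mp h hs (e ▸ ht)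
    rw [LinearMap.mem_ker, LinearMap.sub_apply, Module.End.one_apply, sub_eq_zero]
    refine hρ.disj a b c d e f ?_ v
    simp only [List.nodup_cons, List.mem_cons, List.not_mem_nil, or_false, not_or, List.nodup_nil, and_true,
      not_false_eq_true]
    exact ⟨⟨hab, hac, hne a ha d hd, hne a ha e he, hne a ha f hf⟩,
      ⟨hbc, hne b hb d hd, hne b hb e he, hne b hb f hf⟩,
      ⟨hne c hc d hd, hne c hc e he, hne c hc f hf⟩, ⟨hde, hdf⟩, hef⟩
  exact sub_eq_zero.mp (LinearMap.mem_ker.mp (hle hw))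

theorem exists_three {X : Finset (Fin r)} (h : 3 ≤ X.card) :
    ∃ a ∈ X, ∃ b ∈ X, ∃ c ∈ X, a ≠ b ∧ a ≠ c ∧ b ≠ c :=
  let ⟨a, b, c, ha, hb, hc, h1, h2, h3⟩ := Finset.two_lt_card_iff.mp h
  ⟨a, ha, b, hb, c, hc, h1, h2, h3⟩

/-- No moved space is invariant under everything. -/
theorem Disjointly.stab_ne_top (hρ : Disjointly ρ) (hr : 5 ≤ r) {X : Finset (Fin r)} (h3 : 3 ≤ X.card)
    (hXc : 3 ≤ Xᶜ.card) : stab ρ (moved ρ X) ≠ ⊤ := by
  intro h
  rcases hρ.irred _ fun g w hw => (h ▸ Subgroup.mem_top g : g ∈ stab ρ _).1 w hw with hb | ht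
  · obtain ⟨a, ha, b, hbX, c, hc, h1, h2, h3⟩ := exists_three h3
    refine hρ.c3_ne_one hr h1 h2 h3 (LinearMap.ext fun v => sub_eq_zero.mp ?_)
    exact (Submodule.eq_bot_iff _).mp hb _ (sub_mem_moved ρ ha hbX hc h1 h2 h3 v)
  · obtain ⟨a, ha, b, hb, c, hc, h1, h2, h3⟩ := exists_three hXc
    refine hρ.c3_ne_one hr h1 h2 h3 (LinearMap.ext fun v => ?_)
    exact hρ.cycOn_fixer disjoint_compl_right a ha b hb c hc h1 h2 h3 v (ht ▸ Submodule.mem_top)

theorem Disjointly.moved_ne_bot (hρ : Disjointly ρ) (hr : 5 ≤ r) {X : Finset (Fin r)} (h3 : 3 ≤ X.card) :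
    moved ρ X ≠ ⊥ := by
  intro hb
  obtain ⟨a, ha, b, hbX, c, hc, h1, h2, h3⟩ := exists_three h3
  refine hρ.c3_ne_one hr h1 h2 h3 (LinearMap.ext fun v => sub_eq_zero.mp ?_)
  exact (Submodule.eq_bot_iff _).mp hb _ (sub_mem_moved ρ ha hbX hc h1 h2 h3 v)

variable [FiniteDimensional k V]

theorem Disjointly.moved_step (hρ : Disjointly ρ) (hr : 5 ≤ r) {X : Finset (Fin r)} {y : Fin r}
    (h3 : 3 ≤ X.card) (hy : y ∉ X) (hXr : X.card + 3 ≤ r) :
    Module.finrank k (moved ρ X) < Module.finrank k (moved ρ (insert y X)) := by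
  refine Submodule.finrank_lt_finrank_of_lt (lt_of_le_of_ne (moved_mono ρ (Finset.subset_insert y X)) fun he => ?_)
  have hXc : 3 ≤ Xᶜ.card := by rw [Finset.card_compl, Fintype.card_fin]; omega
  refine hρ.stab_ne_top hr h3 hXc (CycOn.eq_top ?_)
  have h1 : CycOn (stab ρ (moved ρ X)) (insert y X) := cycOn_stab_of_moved_le ρ he.ge
  have h2 : CycOn (stab ρ (moved ρ X)) Xᶜ := fun a ha b hb c hc hab hac hbc =>
    fixer_le_stab ρ _ (hρ.cycOn_fixer disjoint_compl_right a ha b hb c hc hab hac hbc)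
  have h := h1.union h2 (h3.trans (Finset.card_le_card (Finset.subset_insert y X))) hXc
    ⟨y, Finset.mem_inter.mpr ⟨Finset.mem_insert_self y X, Finset.mem_compl.mpr hy⟩⟩
  refine h.mono fun t _ => ?_
  simp only [Finset.mem_union, Finset.mem_insert, Finset.mem_compl]
  tauto

theorem Disjointly.moved_chain (hρ : Disjointly ρ) (hr : 5 ≤ r) (d : ℕ) :
    ∀ {X : Finset (Fin r)}, 3 ≤ X.card → X.card + d + 2 ≤ r →
      Module.finrank k (moved ρ X) + d ≤ Module.finrank k V := by
  induction d with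
  | zero => intro X _ _; exact (Submodule.finrank_le _)
  | succ d ih =>
    intro X h3 hX
    obtain ⟨y, hy⟩ : ∃ y, y ∈ Xᶜ := Finset.card_pos.mp (by
      rw [Finset.card_compl, Fintype.card_fin]; omega)
    rw [Finset.mem_compl] at hy
    have h1 := hρ.moved_step hr h3 hy (by omega)
    have h2 := ih (X := insert y X) (by rw [Finset.card_insert_of_notMem hy]; omega)
      (by rw [Finset.card_insert_of_notMem hy]; omega)
    omega

theorem cycOn_sup_moved {X Y : Finset (Fin r)} (h3 : 3 ≤ X.card) (hY3 : 3 ≤ Y.card) (hXY : (X ∩ Y).Nonempty) :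
    moved ρ (X ∪ Y) ≤ moved ρ X ⊔ moved ρ Y := by
  set W := moved ρ X ⊔ moved ρ Y
  let S : Subgroup (Alt r) :=
    { carrier := {g | g ∈ stab ρ W ∧ ∀ v, ρ g v - v ∈ W}
      one_mem' := ⟨one_mem _, fun v => by rw [map_one, Module.End.one_apply, sub_self]; exact zero_mem _⟩
      mul_mem' := fun {g h} hg hh => ⟨mul_mem hg.1 hh.1, fun v => by
        rw [rho_mul_apply, show ρ g (ρ h v) - v = ρ g (ρ h v - v) + (ρ g v - v) by rw [map_sub]; abel]
        exact add_mem (hg.1.1 _ (hh.2 v)) (hg.2 v)⟩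
      inv_mem' := fun {g} hg => ⟨inv_mem hg.1, fun v => by
        have h := neg_mem (hg.1.2 _ (hg.2 v))
        rwa [map_sub, rho_inv_apply, neg_sub] at h⟩ }
  have hS : ∀ Z : Finset (Fin r), moved ρ Z ≤ W → CycOn S Z := fun Z hZ a ha b hb c hc hab hac hbc =>
    ⟨cycOn_stab_of_moved_le ρ hZ a ha b hb c hc hab hac hbc,
      fun v => hZ (sub_mem_moved ρ ha hb hc hab hac hbc v)⟩
  have h := (hS X le_sup_left).union (hS Y le_sup_right) h3 hY3 hXY
  exact moved_le ρ fun a ha b hb c hc hab hac hbc v => (h a ha b hb c hc hab hac hbc).2 v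

theorem Disjointly.rel_const (hρ : Disjointly ρ) {X : Finset (Fin r)} (hX : 6 ≤ X.card) (w : Fin r → V)
    (heq : ∀ g : Alt r, (∀ t, t ∉ X → g.1 t = t) → ∀ i ∈ X, ρ g (w i) = w (g.1 i))
    (hne : ∃ i ∈ X, ∃ j ∈ X, w i ≠ w j) (c : Fin r → k) (hrel : ∑ i ∈ X, c i • w i = 0) :
    ∀ i ∈ X, ∀ j ∈ X, c i = c j := by
  classical
  by_contra hno
  push Not at hno
  obtain ⟨a, ha, b, hb, hab⟩ := hno
  have hab' : a ≠ b := fun e => hab (e ▸ rfl)
  have pick : ∀ s : Finset (Fin r), s.card < 6 → ∃ t ∈ X, t ∉ s := fun s hs =>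
    Finset.exists_mem_notMem_of_card_lt_card (by omega)
  obtain ⟨d, hd, hd'⟩ := pick {a, b} (lt_of_le_of_lt Finset.card_le_two (by omega))
  simp only [Finset.mem_insert, Finset.mem_singleton, not_or] at hd'
  have supp : ∀ (g : Alt r) (s : Finset (Fin r)), s ⊆ X → (∀ t, t ∉ s → g.1 t = t) →
      ∑ i ∈ s, c i • (w (g.1 i) - w i) = 0 := by
    intro g s hs hg
    have hgX : ∀ t, t ∉ X → g.1 t = t := fun t ht => hg t fun e => ht (hs e)
    have h1 : ∑ i ∈ X, c i • (w (g.1 i) - w i) = 0 := by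
      have h2 := congrArg (ρ g) hrel
      rw [map_sum, map_zero] at h2
      simp only [smul_sub, Finset.sum_sub_distrib, hrel, sub_zero]
      rw [← h2]
      exact Finset.sum_congr rfl fun i hi => by rw [map_smul, heq g hgX i hi]
    rw [← h1]
    exact Finset.sum_subset hs fun i _ hi => by rw [hg i hi, sub_self, smul_zero]
  -- a relation on three points
  have key : (c d - c a) • w a + (c a - c b) • w b + (c b - c d) • w d = 0 := by
    have h := supp (c3 a b d) {a, b, d} (by simp [Finset.insert_subset_iff, ha, hb, hd]) (fun t ht => by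
      simp only [Finset.mem_insert, Finset.mem_singleton, not_or] at ht
      exact c3_apply_ne ht.1 ht.2.1 ht.2.2)
    rw [Finset.sum_insert (by simp [hab', Ne.symm hd'.1]), Finset.sum_insert (by simp [Ne.symm hd'.2]),
      Finset.sum_singleton, c3_apply₁ hab' (Ne.symm hd'.1) (Ne.symm hd'.2),
      c3_apply₂ hab' (Ne.symm hd'.1), c3_apply₃ hab' (Ne.symm hd'.1) (Ne.symm hd'.2)] at h
    rw [← h]; module
  -- shift the middle point
  have hall : ∀ e ∈ X, e ∉ ({a, b, d} : Finset (Fin r)) → w b = w e := by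
    intro e he he'
    obtain ⟨u, hu, hu'⟩ := pick {a, b, d, e} (lt_of_le_of_lt Finset.card_le_four (by omega))
    obtain ⟨v, hv, hv'⟩ := pick {a, b, d, e, u} (lt_of_le_of_lt Finset.card_le_five (by omega))
    simp only [Finset.mem_insert, Finset.mem_singleton, not_or] at he' hu' hv'
    obtain ⟨hua, hub, hud, hue⟩ := hu'
    obtain ⟨hva, hvb, hvd, hve, hvu⟩ := hv'
    let g : Alt r := ⟨swap b e * swap u v, Schur.Alt.swap_swap_mem (Ne.symm he'.2.1) (Ne.symm hvu)⟩
    have gfix : ∀ t, t ≠ b → t ≠ e → t ≠ u → t ≠ v → g.1 t = t := fun t h1 h2 h3 h4 => by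
      show swap b e (swap u v t) = t
      rw [swap_apply_of_ne_of_ne h3 h4, swap_apply_of_ne_of_ne h1 h2]
    have gb : g.1 b = e := by
      show swap b e (swap u v b) = e
      rw [swap_apply_of_ne_of_ne (Ne.symm hub) (Ne.symm hvb), swap_apply_left]
    have hgX : ∀ t, t ∉ X → g.1 t = t := fun t ht =>
      gfix t (fun h => ht (h ▸ hb)) (fun h => ht (h ▸ he)) (fun h => ht (h ▸ hu)) (fun h => ht (h ▸ hv))
    have h2 := congrArg (ρ g) key
    rw [map_add, map_add, map_smul, map_smul, map_smul, map_zero, heq g hgX a ha, heq g hgX b hb,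
      heq g hgX d hd, gb, gfix a hab' (Ne.symm he'.1) (Ne.symm hua) (Ne.symm hva),
      gfix d hd'.2 (Ne.symm he'.2.2) (Ne.symm hud) (Ne.symm hvd)] at h2
    have h3 : (c a - c b) • (w b - w e) = 0 := by
      rw [← sub_self (0 : V)]
      nth_rw 1 [← key]
      nth_rw 1 [← h2]
      module
    exact sub_eq_zero.mp ((smul_eq_zero.mp h3).resolve_left (sub_ne_zero.mpr hab))
  obtain ⟨e, he, he'⟩ := pick {a, b, d} (lt_of_le_of_lt Finset.card_le_three (by omega))
  have hbe : w b = w e := hall e he he'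
  simp only [Finset.mem_insert, Finset.mem_singleton, not_or] at he'
  obtain ⟨i, hi, j, hj, hij⟩ := hne
  have hij' : i ≠ j := fun h => hij (h ▸ rfl)
  obtain ⟨g, hg, hgb, hge⟩ : ∃ g : Alt r, (∀ t, t ∉ X → g.1 t = t) ∧ g.1 b = i ∧ g.1 e = j := by
    have hm : Fintype.card {x // x ∈ X} = X.card := Fintype.card_coe X
    let emb : Fin X.card ↪ Fin r := (X.orderEmbOfFin rfl).toEmbedding
    have hsurj : ∀ t ∈ X, ∃ s, emb s = t := fun t ht => by
      have : t ∈ Set.range (X.orderEmbOfFin rfl) := by rw [Finset.range_orderEmbOfFin]; exact ht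
      exact this
    obtain ⟨sb, hsb⟩ := hsurj b hb
    obtain ⟨se, hse⟩ := hsurj e he
    obtain ⟨si, hsi⟩ := hsurj i hi
    obtain ⟨sj, hsj⟩ := hsurj j hj
    have h1 : sb ≠ se := fun h => he'.2.1 (by rw [← hse, ← hsb, h])
    have h2 : si ≠ sj := fun h => hij' (by rw [← hsi, ← hsj, h])
    obtain ⟨σ, hσ⟩ := exists_map ![sb, se] ![si, sj]
      (by intro x y hxy; fin_cases x <;> fin_cases y <;> first
            | rfl | exact absurd hxy h1 | exact absurd hxy.symm h1)
      (by intro x y hxy; fin_cases x <;> fin_cases y <;> first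
            | rfl | exact absurd hxy h2 | exact absurd hxy.symm h2) (by omega)
    refine ⟨viaPerm emb σ.1 (Perm.mem_alternatingGroup.mp σ.2), fun t ht => viaPerm_apply_out _ _ _ ?_, ?_, ?_⟩
    · rintro ⟨s, rfl⟩; exact ht (Finset.orderEmbOfFin_mem X rfl s)
    · rw [← hsb, viaPerm_apply, show σ.1 sb = si from hσ 0, hsi]
    · rw [← hse, viaPerm_apply, show σ.1 se = sj from hσ 1, hsj]
  apply hij
  rw [← hgb, ← hge, ← heq g hg b hb, ← heq g hg e he, hbe]

/-- A vector fixed by a point stabiliser. -/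
theorem Disjointly.of_point_fixed (hρ : Disjointly ρ) (hr : 7 ≤ r) {c : Fin r} {v : V} (hv : v ≠ 0)
    (hfix : ∀ g : Alt r, g.1 c = c → ρ g v = v) : r ≤ Module.finrank k V + 1 := by
  classical
  have hex : ∀ i, ∃ g : Alt r, g.1 c = i := fun i =>
    (exists_map ![c] ![i] (Function.injective_of_subsingleton _) (Function.injective_of_subsingleton _)
      (by omega)).imp fun g hg => hg 0
  choose g hg using hex
  set w : Fin r → V := fun i => ρ (g i) v
  have heq : ∀ (h : Alt r) i, ρ h (w i) = w (h.1 i) := by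
    intro h i
    have hh : ((g (h.1 i))⁻¹ * (h * g i)).1 c = c := by
      show (g (h.1 i)).1⁻¹ (h.1 ((g i).1 c)) = c
      rw [hg i]
      exact Perm.inv_eq_iff_eq.mpr (hg _).symm
    calc ρ h (w i) = ρ (g (h.1 i) * ((g (h.1 i))⁻¹ * (h * g i))) v := by
          rw [mul_inv_cancel_left, rho_mul_apply]
      _ = _ := by rw [rho_mul_apply, hfix _ hh]
  have hne : ∃ i ∈ Finset.univ, ∃ j ∈ Finset.univ, w i ≠ w j := by
    by_contra hall
    push Not at hall
    have hfix' : fixer ρ (Submodule.span k {w c}) = ⊤ := by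
      rw [eq_top_iff]
      intro h _ u hu
      obtain ⟨a, rfl⟩ := Submodule.mem_span_singleton.mp hu
      rw [map_smul, heq, hall _ (Finset.mem_univ _) c (Finset.mem_univ _)]
    have h0 := hρ.no_fixed hfix'
    have hwc : w c = v := hfix (g c) (hg c)
    exact hv (by rw [← hwc]; exact Submodule.span_singleton_eq_bot.mp h0)
  have hrel := hρ.rel_const (X := Finset.univ) (by rw [Finset.card_univ, Fintype.card_fin]; omega) w
    (fun h _ i _ => heq h i) hne
  let i0 : Fin r := ⟨0, by omega⟩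
  have hindep : LinearIndependent k fun i : {i : Fin r // i ≠ i0} => w i := by
    rw [Fintype.linearIndependent_iff]
    intro a ha i
    let a' : Fin r → k := fun t => if h : t ≠ i0 then a ⟨t, h⟩ else 0
    have h1 := hrel a' (by
      rw [← Finset.sum_erase Finset.univ (a := i0) (f := fun t => a' t • w t) (by simp [a']),
        Finset.sum_subtype (p := fun t => t ≠ i0) (Finset.univ.erase i0) (by simp) (fun t => a' t • w t), ← ha]
      exact Finset.sum_congr rfl fun t _ => by simp [a', t.2]) i.1 (Finset.mem_univ _) i0 (Finset.mem_univ _)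
    simpa [a', i.2] using h1
  have := hindep.fintype_card_le_finrank
  rw [Fintype.card_subtype_compl, Fintype.card_fin, Fintype.card_subtype_eq] at this
  omega

theorem inj2 {α : Type*} {a b : α} (h : a ≠ b) : Function.Injective ![a, b] := by
  intro x y hxy
  fin_cases x <;> fin_cases y <;> first
    | rfl
    | exact absurd hxy h
    | exact absurd hxy.symm h

theorem inj3 {α : Type*} {a b c : α} (hab : a ≠ b) (hac : a ≠ c) (hbc : b ≠ c) :
    Function.Injective ![a, b, c] := by
  intro x y hxy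
  fin_cases x <;> fin_cases y <;> first
    | rfl
    | exact absurd hxy hab
    | exact absurd hxy.symm hab
    | exact absurd hxy hac
    | exact absurd hxy.symm hac
    | exact absurd hxy hbc
    | exact absurd hxy.symm hbc

/-- A point outside a small set. -/
theorem exists_outside (s : Finset (Fin r)) (h : s.card < r) : ∃ t, t ∉ s := by
  obtain ⟨t, -, ht⟩ := Finset.exists_mem_notMem_of_card_lt_card (t := (Finset.univ : Finset (Fin r))) (s := s)
    (by rwa [Finset.card_univ, Fintype.card_fin])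
  exact ⟨t, ht⟩

theorem card3 {a b c : Fin r} (h1 : a ≠ b) (h2 : a ≠ c) (h3 : b ≠ c) : ({a, b, c} : Finset (Fin r)).card = 3 :=
  Finset.card_eq_three.mpr ⟨_, _, _, h1, h2, h3, rfl⟩

/-- The small-dimensional situation. -/
structure Small (ρ : Alt r →* Module.End k V) : Prop where
  disjointly : Disjointly ρ
  nine : 9 ≤ r
  small : Module.finrank k V + 2 ≤ r

/-- The moved space of a triple. -/
def tri (ρ : Alt r →* Module.End k V) (a b c : Fin r) : Submodule k V := moved ρ {a, b, c}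

theorem Small.compl3 (h : Small ρ) {a b c : Fin r} (h1 : a ≠ b) (h2 : a ≠ c) (h3 : b ≠ c) :
    3 ≤ ({a, b, c} : Finset (Fin r))ᶜ.card := by
  rw [Finset.card_compl, Fintype.card_fin, card3 h1 h2 h3]; have := h.nine; omega

theorem Small.noPoint (h : Small ρ) (c : Fin r) (v : V) (hv : ∀ g : Alt r, g.1 c = c → ρ g v = v) : v = 0 := by
  by_contra h0
  have := h.disjointly.of_point_fixed (by have := h.nine; omega) h0 hv
  have := h.small
  omega

theorem Disjointly.cycOn_fixer_span (hρ : Disjointly ρ) {a b c : Fin r} {v : V} (hv : v ∈ tri ρ a b c) :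
    CycOn (fixer ρ (Submodule.span k {v})) ({a, b, c} : Finset (Fin r))ᶜ :=
  fun x hx y hy z hz h1 h2 h3 u hu => by
    obtain ⟨s, rfl⟩ := Submodule.mem_span_singleton.mp hu
    rw [map_smul, hρ.cycOn_fixer disjoint_compl_right x hx y hy z hz h1 h2 h3 v hv]

theorem Small.fixPair (h : Small ρ) {a b c d : Fin r} (hab : a ≠ b) (hac : a ≠ c) (hbc : b ≠ c) (had : a ≠ d)
    (hbd : b ≠ d) (hcd : c ≠ d) {v : V} (hv : v ∈ tri ρ a b c ⊓ tri ρ a b d) (g : Alt r) (ga : g.1 a = a)
    (gb : g.1 b = b) : ρ g v = v := by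
  have h1 := h.disjointly.cycOn_fixer_span hv.1
  have h2 := h.disjointly.cycOn_fixer_span hv.2
  obtain ⟨t, ht⟩ := exists_outside {a, b, c, d} (lt_of_le_of_lt Finset.card_le_four (by have := h.nine; omega))
  simp only [Finset.mem_insert, Finset.mem_singleton, not_or] at ht
  refine (h1.union h2 (h.compl3 hab hac hbc) (h.compl3 hab had hbd) ⟨t, by simp [ht]⟩).mem g (fun x hx => ?_) v
    (Submodule.mem_span_singleton_self v)
  simp only [Finset.mem_union, Finset.mem_compl, Finset.mem_insert, Finset.mem_singleton, not_or, not_and_or,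
    not_not] at hx
  grind

theorem Small.fixPoint (h : Small ρ) {a b c d e : Fin r} (hnd : [a, b, c, d, e].Nodup) :
    tri ρ a b c ⊓ tri ρ c d e = ⊥ := by
  simp only [List.nodup_cons, List.mem_cons, List.not_mem_nil, or_false, not_or, List.nodup_nil, and_true,
    not_false_eq_true] at hnd
  obtain ⟨⟨hab, hac, had, hae⟩, ⟨hbc, hbd, hbe⟩, ⟨hcd, hce⟩, hde⟩ := hnd
  rw [Submodule.eq_bot_iff]
  intro v hv
  refine h.noPoint c v fun g gc => ?_
  have h1 := h.disjointly.cycOn_fixer_span hv.1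
  have h2 := h.disjointly.cycOn_fixer_span hv.2
  obtain ⟨t, ht⟩ := exists_outside {a, b, c, d, e} (lt_of_le_of_lt Finset.card_le_five (by have := h.nine; omega))
  simp only [Finset.mem_insert, Finset.mem_singleton, not_or] at ht
  refine (h1.union h2 (h.compl3 hab hac hbc) (h.compl3 hcd hce hde) ⟨t, by simp [ht]⟩).mem g (fun x hx => ?_) v
    (Submodule.mem_span_singleton_self v)
  simp only [Finset.mem_union, Finset.mem_compl, Finset.mem_insert, Finset.mem_singleton, not_or, not_and_or,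
    not_not] at hx
  grind

theorem Small.tri_key (h : Small ρ) {a b c d e : Fin r} (hnd : [a, b, c, d, e].Nodup) :
    Module.finrank k (tri ρ a b c) + Module.finrank k (tri ρ c d e) ≤ 5 ∧
    Module.finrank k (tri ρ a b c) < Module.finrank k (moved ρ {a, b, c, d}) ∧
    Module.finrank k (moved ρ {a, b, c, d}) < Module.finrank k (tri ρ a b c) + Module.finrank k (tri ρ c d e) ∧
    Module.finrank k (moved ρ {a, b, c, d}) ≤ Module.finrank k (tri ρ a b c) + Module.finrank k (tri ρ b c d) ∧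
    1 ≤ Module.finrank k (tri ρ a b c) := by
  have hρ := h.disjointly
  have hr := h.nine
  have hn := h.small
  have hP := h.fixPoint hnd
  simp only [List.nodup_cons, List.mem_cons, List.not_mem_nil, or_false, not_or, List.nodup_nil, and_true,
    not_false_eq_true] at hnd
  obtain ⟨⟨hab, hac, had, hae⟩, ⟨hbc, hbd, hbe⟩, ⟨hcd, hce⟩, hde⟩ := hnd
  have e5 : ({a, b, c} ∪ {c, d, e} : Finset (Fin r)) = insert e {a, b, c, d} := by ext; simp; tauto
  have hle : moved ρ ({a, b, c} ∪ {c, d, e} : Finset (Fin r)) = tri ρ a b c ⊔ tri ρ c d e :=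
    le_antisymm (cycOn_sup_moved (by rw [card3 hab hac hbc]) (by rw [card3 hcd hce hde]) ⟨c, by simp⟩)
      (sup_le (moved_mono ρ Finset.subset_union_left) (moved_mono ρ Finset.subset_union_right))
  have hsum := Submodule.finrank_sup_add_finrank_inf_eq (tri ρ a b c) (tri ρ c d e)
  rw [hP, finrank_bot, add_zero, ← hle, e5] at hsum
  have h4 : ({a, b, c, d} : Finset (Fin r)) = insert d {a, b, c} := by ext; simp; tauto
  have c4 : ({a, b, c, d} : Finset (Fin r)).card = 4 := by
    rw [h4, Finset.card_insert_of_notMem (by simp [Ne.symm had, Ne.symm hbd, Ne.symm hcd]), card3 hab hac hbc]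
  have hc5 : (insert e ({a, b, c, d} : Finset (Fin r))).card = 5 := by
    rw [Finset.card_insert_of_notMem (by simp [Ne.symm hae, Ne.symm hbe, Ne.symm hce, Ne.symm hde]), c4]
  have h5 := hρ.moved_chain (by omega) (r - 7) (X := insert e {a, b, c, d}) (by omega) (by omega)
  refine ⟨by omega, ?_, ?_, ?_, ?_⟩
  · rw [h4]
    exact hρ.moved_step (by omega) (by rw [card3 hab hac hbc])
      (by simp [Ne.symm had, Ne.symm hbd, Ne.symm hcd]) (by rw [card3 hab hac hbc]; omega)
  · rw [← hsum]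
    exact hρ.moved_step (by omega) (by rw [c4]; omega)
      (by simp [Ne.symm hae, Ne.symm hbe, Ne.symm hce, Ne.symm hde]) (by rw [c4]; omega)
  · have e4 : ({a, b, c, d} : Finset (Fin r)) = {a, b, c} ∪ {b, c, d} := by ext; simp only [Finset.mem_union, Finset.mem_insert, Finset.mem_singleton]; tauto
    rw [e4]
    refine (Submodule.finrank_mono (cycOn_sup_moved (ρ := ρ) (by rw [card3 hab hac hbc])
      (by rw [card3 hbc hbd hcd]) ⟨b, by simp⟩)).trans ?_
    exact Submodule.finrank_add_le_finrank_add_finrank _ _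
  · exact Submodule.one_le_finrank_iff.mpr (hρ.moved_ne_bot (by omega) (by rw [card3 hab hac hbc]))

theorem Small.tri_le (h : Small ρ) {a b c a' b' c' : Fin r} (h1 : a ≠ b) (h2 : a ≠ c) (h3 : b ≠ c)
    (h4 : a' ≠ b') (h5 : a' ≠ c') (h6 : b' ≠ c') :
    Module.finrank k (tri ρ a b c) ≤ Module.finrank k (tri ρ a' b' c') := by
  obtain ⟨g, hg⟩ := exists_map ![a, b, c] ![a', b', c'] (inj3 h1 h2 h3) (inj3 h4 h5 h6)
    (by have := h.nine; omega)
  have himg : ({a, b, c} : Finset (Fin r)).image (fun t => g.1 t) = {a', b', c'} := by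
    simp [Finset.image_insert, show g.1 a = a' from hg 0, show g.1 b = b' from hg 1, show g.1 c = c' from hg 2]
  let f : tri ρ a b c →ₗ[k] tri ρ a' b' c' := ((ρ g).comp (tri ρ a b c).subtype).codRestrict _ fun x => by
    show ρ g x.1 ∈ moved ρ {a', b', c'}
    rw [← himg]; exact rho_mem_moved_image ρ g x.2
  exact LinearMap.finrank_le_finrank_of_injective (f := f) fun x y hxy => Subtype.ext (by
    have := congrArg (fun z : tri ρ a' b' c' => ρ g⁻¹ z.1) hxy
    simpa [f, rho_inv_apply] using this)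

theorem Small.dims (h : Small ρ) {a b c : Fin r} (hab : a ≠ b) (hac : a ≠ c) (hbc : b ≠ c) :
    Module.finrank k (tri ρ a b c) = 2 ∧
      ∀ d, a ≠ d → b ≠ d → c ≠ d → Module.finrank k (moved ρ {a, b, c, d}) = 3 := by
  have step : ∀ d, a ≠ d → b ≠ d → c ≠ d → Module.finrank k (tri ρ a b c) = 2 ∧
      Module.finrank k (moved ρ {a, b, c, d}) = 3 := by
    intro d had hbd hcd
    obtain ⟨e, he⟩ := exists_outside {a, b, c, d} (lt_of_le_of_lt Finset.card_le_four (by have := h.nine; omega))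
    simp only [Finset.mem_insert, Finset.mem_singleton, not_or] at he
    have hce : c ≠ e := Ne.symm he.2.2.1
    have hde : d ≠ e := Ne.symm he.2.2.2
    obtain ⟨k1, k2, k3, k4, k5⟩ := h.tri_key (a := a) (b := b) (c := c) (d := d) (e := e) (by
      simp [hab, hac, hbc, had, hbd, hcd, Ne.symm he.1, Ne.symm he.2.1, hce, hde])
    have q1 := h.tri_le hab hac hbc hcd hce hde
    have q2 := h.tri_le hcd hce hde hab hac hbc
    have q3 := h.tri_le hbc hbd hcd hab hac hbc
    omega
  obtain ⟨d0, hd0⟩ := exists_outside {a, b, c} (lt_of_le_of_lt Finset.card_le_three (by have := h.nine; omega))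
  simp only [Finset.mem_insert, Finset.mem_singleton, not_or] at hd0
  exact ⟨(step d0 (Ne.symm hd0.1) (Ne.symm hd0.2.1) (Ne.symm hd0.2.2)).1, fun d h1 h2 h3 => (step d h1 h2 h3).2⟩

/-- The vectors fixed by the stabiliser of two points. -/
def pairFixed (ρ : Alt r →* Module.End k V) (a b : Fin r) : Submodule k V where
  carrier := {v | ∀ g : Alt r, g.1 a = a → g.1 b = b → ρ g v = v}
  zero_mem' := fun g _ _ => map_zero _
  add_mem' := fun {u v} hu hv g h1 h2 => by rw [map_add, hu g h1 h2, hv g h1 h2]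
  smul_mem' := fun s {v} hv g h1 h2 => by rw [map_smul, hv g h1 h2]

/-- The line of a pair inside a triple. -/
def line (ρ : Alt r →* Module.End k V) (a b c : Fin r) : Submodule k V := tri ρ a b c ⊓ pairFixed ρ a b

theorem line_map (g : Alt r) {a b c : Fin r} {v : V} (hv : v ∈ line ρ a b c) :
    ρ g v ∈ line ρ (g.1 a) (g.1 b) (g.1 c) := by
  refine ⟨?_, fun h h1 h2 => ?_⟩
  · have := rho_mem_moved_image ρ g hv.1
    simpa [tri, Finset.image_insert] using this
  · calc ρ h (ρ g v) = ρ g (ρ (g⁻¹ * h * g) v) := by simp only [← rho_mul_apply]; congr 2; group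
      _ = ρ g v := by
        congr 1
        refine hv.2 _ ?_ ?_
        · show g.1⁻¹ (h.1 (g.1 a)) = a
          rw [h1]; exact Perm.inv_eq_iff_eq.mpr rfl
        · show g.1⁻¹ (h.1 (g.1 b)) = b
          rw [h2]; exact Perm.inv_eq_iff_eq.mpr rfl

theorem line_symm {a b c : Fin r} {v : V} (hv : v ∈ line ρ a b c) : v ∈ line ρ b a c :=
  ⟨by
    have e : ({b, a, c} : Finset (Fin r)) = {a, b, c} := by ext; simp; tauto
    show v ∈ moved ρ {b, a, c}
    rw [e]; exact hv.1, fun g h1 h2 => hv.2 g h2 h1⟩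

theorem Small.line_dim (h : Small ρ) {a b c : Fin r} (hab : a ≠ b) (hac : a ≠ c) (hbc : b ≠ c) :
    Module.finrank k (line ρ a b c) ≤ 1 := by
  by_contra hlt
  have h2 := (h.dims hab hac hbc).1
  have hr := h.nine
  have hρ := h.disjointly
  have heq : line ρ a b c = tri ρ a b c := Submodule.eq_of_le_of_finrank_le inf_le_left (by omega)
  refine hρ.stab_ne_top (by omega) (by rw [card3 hab hac hbc]) (h.compl3 hab hac hbc) (CycOn.eq_top ?_)
  have h1 : CycOn (stab ρ (tri ρ a b c)) {a, b, c} := cycOn_stab_of_moved_le ρ le_rfl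
  have h2' : CycOn (stab ρ (tri ρ a b c)) ({a, b} : Finset (Fin r))ᶜ := by
    intro x hx y hy z hz _ _ _
    apply fixer_le_stab
    intro v hv
    rw [← heq] at hv
    simp only [Finset.mem_compl, Finset.mem_insert, Finset.mem_singleton, not_or] at hx hy hz
    exact hv.2 _ (c3_apply_ne (Ne.symm hx.1) (Ne.symm hy.1) (Ne.symm hz.1))
      (c3_apply_ne (Ne.symm hx.2) (Ne.symm hy.2) (Ne.symm hz.2))
  have h3 := h1.union h2' (by rw [card3 hab hac hbc])
    (by rw [Finset.card_compl, Fintype.card_fin]; have := Finset.card_le_two (a := a) (b := b); omega)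
    ⟨c, by simp [Ne.symm hac, Ne.symm hbc]⟩
  refine h3.mono fun t _ => ?_
  simp only [Finset.mem_union, Finset.mem_compl, Finset.mem_insert, Finset.mem_singleton]
  tauto

theorem Small.line_main (h : Small ρ) {a b c d : Fin r} (hab : a ≠ b) (hac : a ≠ c) (hbc : b ≠ c)
    (had : a ≠ d) (hbd : b ≠ d) (hcd : c ≠ d) :
    tri ρ a b c ⊓ tri ρ a b d = line ρ a b c ∧ line ρ a b c ≠ ⊥ := by
  have hle : tri ρ a b c ⊓ tri ρ a b d ≤ line ρ a b c := le_inf inf_le_left fun v hv g h1 h2 =>
    h.fixPair hab hac hbc had hbd hcd hv g h1 h2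
  have e4 : ({a, b, c} ∪ {a, b, d} : Finset (Fin r)) = {a, b, c, d} := by ext; simp only [Finset.mem_union, Finset.mem_insert, Finset.mem_singleton]; tauto
  have hsup : moved ρ ({a, b, c} ∪ {a, b, d} : Finset (Fin r)) = tri ρ a b c ⊔ tri ρ a b d :=
    le_antisymm (cycOn_sup_moved (by rw [card3 hab hac hbc]) (by rw [card3 hab had hbd]) ⟨a, by simp⟩)
      (sup_le (moved_mono ρ Finset.subset_union_left) (moved_mono ρ Finset.subset_union_right))
  have hsum := Submodule.finrank_sup_add_finrank_inf_eq (tri ρ a b c) (tri ρ a b d)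
  rw [← hsup, e4, (h.dims hab hac hbc).2 d had hbd hcd, (h.dims hab hac hbc).1,
    (h.dims hab had hbd).1] at hsum
  have hL := h.line_dim hab hac hbc
  have heq := Submodule.eq_of_le_of_finrank_le hle (by omega)
  refine ⟨heq, fun hb => ?_⟩
  rw [heq, hb, finrank_bot] at hsum
  omega

theorem Small.line_eq (h : Small ρ) {a b c d : Fin r} (hab : a ≠ b) (hac : a ≠ c) (hbc : b ≠ c) (had : a ≠ d)
    (hbd : b ≠ d) : line ρ a b c = line ρ a b d := by
  by_cases hcd : c = d
  · rw [hcd]
  · rw [← (h.line_main hab hac hbc had hbd hcd).1, ← (h.line_main hab had hbd hac hbc (Ne.symm hcd)).1, inf_comm]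

/-- A star of vectors around a point. -/
structure Star (ρ : Alt r →* Module.End k V) (a : Fin r) (w : Fin r → V) : Prop where
  small : Small ρ
  equiv : ∀ h : Alt r, h.1 a = a → ∀ i, i ≠ a → ρ h (w i) = w (h.1 i)
  ne_zero : ∀ i, i ≠ a → w i ≠ 0
  mem : ∀ i t, i ≠ a → t ≠ a → t ≠ i → w i ∈ line ρ a i t

theorem Small.exists_star (h : Small ρ) : ∃ a w, Star ρ a w := by
  classical
  have hr := h.nine
  obtain ⟨a, ha⟩ := exists_outside (∅ : Finset (Fin r)) (by simp; omega)
  obtain ⟨b₀, hb⟩ := exists_outside {a} (by simp; omega)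
  obtain ⟨c₀, hc⟩ := exists_outside {a, b₀} (lt_of_le_of_lt Finset.card_le_two (by omega))
  obtain ⟨d₀, hd⟩ := exists_outside {a, b₀, c₀} (lt_of_le_of_lt Finset.card_le_three (by omega))
  simp only [Finset.mem_insert, Finset.mem_singleton, not_or] at hb hc hd
  have hab₀ : a ≠ b₀ := Ne.symm hb
  have hac₀ : a ≠ c₀ := Ne.symm hc.1
  have hbc₀ : b₀ ≠ c₀ := Ne.symm hc.2
  obtain ⟨x, hx, hx0⟩ := Submodule.exists_mem_ne_zero_of_ne_bot
    (h.line_main hab₀ hac₀ hbc₀ (Ne.symm hd.1) (Ne.symm hd.2.1) (Ne.symm hd.2.2)).2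
  have hex : ∀ i, ∃ g : Alt r, i ≠ a → g.1 a = a ∧ g.1 b₀ = i := by
    intro i
    by_cases hi : i = a
    · exact ⟨1, fun h => absurd hi h⟩
    obtain ⟨g, hg⟩ := exists_map ![a, b₀] ![a, i] (inj2 hab₀) (inj2 (Ne.symm hi)) (by omega)
    exact ⟨g, fun _ => ⟨hg 0, hg 1⟩⟩
  choose g hg using hex
  refine ⟨a, fun i => ρ (g i) x, h, ?_, ?_, ?_⟩
  · intro u ha' i hi
    have hi' : u.1 i ≠ a := fun e => hi (u.1.injective (e.trans ha'.symm))
    have key : ρ ((g (u.1 i))⁻¹ * (u * g i)) x = x := by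
      refine hx.2 _ ?_ ?_
      · show (g (u.1 i)).1⁻¹ (u.1 ((g i).1 a)) = a
        rw [(hg i hi).1, ha']; exact Perm.inv_eq_iff_eq.mpr (hg _ hi').1.symm
      · show (g (u.1 i)).1⁻¹ (u.1 ((g i).1 b₀)) = b₀
        rw [(hg i hi).2]; exact Perm.inv_eq_iff_eq.mpr (hg _ hi').2.symm
    calc ρ u (ρ (g i) x) = ρ (g (u.1 i) * ((g (u.1 i))⁻¹ * (u * g i))) x := by
          rw [mul_inv_cancel_left, rho_mul_apply]
      _ = _ := by rw [rho_mul_apply, key]
  · intro i _ e
    exact hx0 (by rw [← rho_inv_apply ρ (g i) x, show ρ (g i) x = 0 from e, map_zero])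
  · intro i t hi ht hti
    obtain ⟨ga, gb⟩ := hg i hi
    have h' := line_map (g i) hx
    rw [ga, gb] at h'
    have h1 : a ≠ (g i).1 c₀ := fun e => hac₀ ((g i).1.injective (ga.trans e))
    have h2 : i ≠ (g i).1 c₀ := fun e => hbc₀ ((g i).1.injective (gb.trans e))
    rw [← h.line_eq (Ne.symm hi) h1 h2 (Ne.symm ht) (Ne.symm hti)]
    exact h'

variable {a : Fin r} {w : Fin r → V}

theorem Star.rel (h : Star ρ a w) (cc : Fin r → k) (hsum : ∑ i ∈ Finset.univ.erase a, cc i • w i = 0) :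
    ∀ i ∈ Finset.univ.erase a, ∀ j ∈ Finset.univ.erase a, cc i = cc j := by
  have hr := h.small.nine
  refine h.small.disjointly.rel_const ?_ w (fun g hg i hi => h.equiv g (hg a (Finset.notMem_erase _ _)) i
    (Finset.ne_of_mem_erase hi)) ?_ cc hsum
  · rw [Finset.card_erase_of_mem (Finset.mem_univ _), Finset.card_univ, Fintype.card_fin]; omega
  · by_contra hall
    push Not at hall
    obtain ⟨b, hb⟩ := exists_outside {a} (by simp; omega)
    simp only [Finset.mem_singleton] at hb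
    refine h.ne_zero b hb (h.small.noPoint a (w b) fun g ga => ?_)
    rw [h.equiv g ga b hb]
    exact hall _ (Finset.mem_erase.mpr ⟨fun e => hb (g.1.injective (e.trans ga.symm)), Finset.mem_univ _⟩) b
      (Finset.mem_erase.mpr ⟨hb, Finset.mem_univ _⟩)

theorem Star.indep3 (h : Star ρ a w) {u v t : Fin r} (hu : u ≠ a) (hv : v ≠ a) (ht : t ≠ a) (huv : u ≠ v)
    (hut : u ≠ t) (hvt : v ≠ t) {α β γ : k} (h0 : α • w u + β • w v + γ • w t = 0) :
    α = 0 ∧ β = 0 ∧ γ = 0 := by
  have hr := h.small.nine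
  let cc : Fin r → k := fun i => if i = u then α else if i = v then β else if i = t then γ else 0
  have cu : cc u = α := if_pos rfl
  have cv : cc v = β := (if_neg (Ne.symm huv)).trans (if_pos rfl)
  have ct : cc t = γ := (if_neg (Ne.symm hut)).trans ((if_neg (Ne.symm hvt)).trans (if_pos rfl))
  have cn : ∀ i, i ≠ u → i ≠ v → i ≠ t → cc i = 0 := fun i h1 h2 h3 =>
    (if_neg h1).trans ((if_neg h2).trans (if_neg h3))
  have hsum : ∑ i ∈ Finset.univ.erase a, cc i • w i = 0 := by
    rw [← Finset.sum_subset (s₁ := {u, v, t}) (fun i hi => by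
      simp only [Finset.mem_insert, Finset.mem_singleton] at hi
      rcases hi with rfl | rfl | rfl <;> exact Finset.mem_erase.mpr ⟨by assumption, Finset.mem_univ _⟩)
      (fun i _ hi => by
      simp only [Finset.mem_insert, Finset.mem_singleton, not_or] at hi
      rw [cn i hi.1 hi.2.1 hi.2.2, zero_smul])]
    rw [Finset.sum_insert (by simp [huv, hut]), Finset.sum_insert (by simp [hvt]), Finset.sum_singleton,
      cu, cv, ct, ← add_assoc, h0]
  obtain ⟨o, ho⟩ := exists_outside {a, u, v, t} (lt_of_le_of_lt Finset.card_le_four (by omega))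
  simp only [Finset.mem_insert, Finset.mem_singleton, not_or] at ho
  have hm : ∀ {i : Fin r}, i ≠ a → i ∈ Finset.univ.erase a := fun hi => Finset.mem_erase.mpr ⟨hi, Finset.mem_univ _⟩
  have hz : ∀ i, i ≠ a → cc i = 0 := fun i hi =>
    (h.rel cc hsum i (hm hi) o (hm ho.1)).trans (cn o ho.2.1 ho.2.2.1 ho.2.2.2)
  exact ⟨cu ▸ hz u hu, cv ▸ hz v hv, ct ▸ hz t ht⟩

theorem Star.indep2 (h : Star ρ a w) {u v : Fin r} (hu : u ≠ a) (hv : v ≠ a) (huv : u ≠ v) {α β : k}
    (h0 : α • w u + β • w v = 0) : α = 0 ∧ β = 0 := by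
  obtain ⟨t, ht⟩ := exists_outside {a, u, v} (lt_of_le_of_lt Finset.card_le_three (by have := h.small.nine; omega))
  simp only [Finset.mem_insert, Finset.mem_singleton, not_or] at ht
  have := h.indep3 hu hv ht.1 huv (Ne.symm ht.2.1) (Ne.symm ht.2.2) (α := α) (β := β) (γ := 0)
    (by rw [zero_smul, add_zero, h0])
  exact ⟨this.1, this.2.1⟩

theorem Star.span_tri (h : Star ρ a w) {u v : Fin r} (hu : u ≠ a) (hv : v ≠ a) (huv : u ≠ v) {y : V}
    (hy : y ∈ tri ρ a u v) : ∃ α β : k, y = α • w u + β • w v := by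
  have e : tri ρ a v u = tri ρ a u v := by
    show moved ρ _ = moved ρ _
    congr 1; ext; simp; tauto
  have hle : Submodule.span k {w u, w v} ≤ tri ρ a u v := by
    rw [Submodule.span_le]
    rintro _ (rfl | rfl)
    · exact (h.mem u v hu hv (Ne.symm huv)).1
    · exact e ▸ (h.mem v u hv hu huv).1
  have hli : LinearIndependent k ![w u, w v] :=
    LinearIndependent.pair_iff.mpr fun s t h0 => h.indep2 hu hv huv h0
  have h2 := finrank_span_eq_card hli
  rw [Fintype.card_fin, Matrix.range_cons, Matrix.range_cons, Matrix.range_empty, Set.union_empty,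
    Set.singleton_union] at h2
  have heq := Submodule.eq_of_le_of_finrank_le hle
    (by rw [h2, (h.small.dims (Ne.symm hu) (Ne.symm hv) huv).1])
  rw [← heq, Submodule.mem_span_pair] at hy
  obtain ⟨α, β, hab⟩ := hy
  exact ⟨α, β, hab.symm⟩

theorem Star.span_line (h : Star ρ a w) {u v : Fin r} (hu : u ≠ a) (hv : v ≠ a) (huv : u ≠ v) {y : V}
    (hy : y ∈ line ρ a u v) : ∃ α : k, y = α • w u := by
  have h1 := h.small.line_dim (Ne.symm hu) (Ne.symm hv) huv
  have hle : Submodule.span k {w u} ≤ line ρ a u v :=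
    (Submodule.span_singleton_le_iff_mem _ _).mpr (h.mem u v hu hv (Ne.symm huv))
  have heq := Submodule.eq_of_le_of_finrank_le hle (by rw [finrank_span_singleton (h.ne_zero u hu)]; exact h1)
  rw [← heq, Submodule.mem_span_singleton] at hy
  obtain ⟨α, hα⟩ := hy
  exact ⟨α, hα.symm⟩

theorem c3_mul_self {a b c : Fin r} (hab : a ≠ b) (hac : a ≠ c) (hbc : b ≠ c) :
    c3 a b c * c3 a b c = c3 a c b := by
  apply Subtype.ext; ext t
  show ((c3 a b c).1 ((c3 a b c).1 t)).val = ((c3 a c b).1 t).val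
  by_cases h1 : t = a
  · rw [h1, c3_apply₁ hab hac hbc, c3_apply₂ hab hac, c3_apply₁ hac hab hbc.symm]
  by_cases h2 : t = b
  · rw [h2, c3_apply₂ hab hac, c3_apply₃ hab hac hbc, c3_apply₃ hac hab hbc.symm]
  by_cases h3 : t = c
  · rw [h3, c3_apply₃ hab hac hbc, c3_apply₁ hab hac hbc, c3_apply₂ hac hab]
  rw [c3_apply_ne h1 h2 h3, c3_apply_ne h1 h2 h3, c3_apply_ne h1 h3 h2]

theorem c3_cube {a b c : Fin r} (hab : a ≠ b) (hac : a ≠ c) (hbc : b ≠ c) :
    c3 a b c * c3 a b c * c3 a b c = 1 := by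
  rw [c3_mul_self hab hac hbc, ← c3_inv hab hac hbc, inv_mul_cancel]

theorem rho_c3_sum {a b c : Fin r} (hab : a ≠ b) (hac : a ≠ c) (hbc : b ≠ c) {v : V} (hv : v ∈ tri ρ a b c) :
    v + ρ (c3 a b c) v + ρ (c3 a b c) (ρ (c3 a b c) v) = 0 := by
  set T := c3 a b c with hT
  have hle : tri ρ a b c ≤ LinearMap.ker (1 + ρ T + ρ T * ρ T) := by
    have hone : (ρ T * ρ T * ρ T : Module.End k V) = 1 := by
      rw [← map_mul, ← map_mul, c3_cube hab hac hbc, map_one]
    refine moved_le ρ fun u hu v hv t ht huv hut hvt s => ?_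
    have hmem : c3 u v t = T ∨ c3 u v t = T * T := by
      have hsub : ∀ q ∈ ({a, b, c} : Finset (Fin r)), q = a ∨ q = b ∨ q = c := by simp
      rw [hT, c3_mul_self hab hac hbc]
      rcases hsub u hu with rfl | rfl | rfl <;> rcases hsub v hv with rfl | rfl | rfl <;>
        rcases hsub t ht with rfl | rfl | rfl <;> first
        | exact absurd rfl huv | exact absurd rfl hut | exact absurd rfl hvt
        | exact Or.inl rfl | exact Or.inr rfl
        | exact Or.inl (c3_rotate hab hac hbc)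
        | exact Or.inl ((c3_rotate hbc hab.symm hac.symm).trans (c3_rotate hab hac hbc))
        | exact Or.inr (c3_rotate hac hab hbc.symm)
        | exact Or.inr ((c3_rotate hbc.symm hac.symm hab.symm).trans (c3_rotate hac hab hbc.symm))
    rw [LinearMap.mem_ker]
    have hone' := LinearMap.congr_fun hone s
    simp only [Module.End.mul_apply, Module.End.one_apply] at hone'
    rcases hmem with e | e <;> rw [e] <;>
      simp only [map_mul, Module.End.mul_apply, Module.End.one_apply, LinearMap.add_apply, map_sub, hone'] <;>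
      abel
  simpa using LinearMap.mem_ker.mp (hle hv)

theorem Star.action (h : Star ρ a w) {b c : Fin r} (hb : b ≠ a) (hc : c ≠ a) (hbc : b ≠ c) :
    ∃ γ : k, γ * γ = 1 ∧ ρ (c3 a b c) (w b) = -w b - γ • w c ∧ γ • ρ (c3 a b c) (w c) = w b := by
  have hab := Ne.symm hb
  have hac := Ne.symm hc
  have hr := h.small.nine
  set T := c3 a b c with hT
  have Ta : T.1 a = b := c3_apply₁ hab hac hbc
  have Tb : T.1 b = c := c3_apply₂ hab hac
  have Tc : T.1 c = a := c3_apply₃ hab hac hbc
  have hwb : w b ∈ line ρ a b c := h.mem b c hb hc (Ne.symm hbc)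
  set y := ρ T (w b) with hy
  set z := ρ T y with hz
  have hyL : y ∈ line ρ b c a := by have := line_map T hwb; rwa [Ta, Tb, Tc] at this
  have hzL : z ∈ line ρ a c b := by
    have := line_map T hyL; rw [Ta, Tb, Tc] at this
    exact line_symm this
  have hzero : w b + y + z = 0 := rho_c3_sum hab hac hbc hwb.1
  obtain ⟨γ, hγ⟩ := h.span_line hc hb (Ne.symm hbc) hzL
  have hyv : y = -w b - γ • w c := by
    rw [hγ] at hzero
    linear_combination (norm := module) hzero
  obtain ⟨d, hd⟩ := exists_outside {a, b, c} (lt_of_le_of_lt Finset.card_le_three (by omega))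
  obtain ⟨e, he⟩ := exists_outside {a, b, c, d} (lt_of_le_of_lt Finset.card_le_four (by omega))
  simp only [Finset.mem_insert, Finset.mem_singleton, not_or] at hd he
  let g : Alt r := ⟨swap b c * swap d e, Schur.Alt.swap_swap_mem hbc (Ne.symm he.2.2.2)⟩
  have g_a : g.1 a = a := by
    show swap b c (swap d e a) = a
    rw [swap_apply_of_ne_of_ne (Ne.symm hd.1) (Ne.symm he.1), swap_apply_of_ne_of_ne hab hac]
  have g_b : g.1 b = c := by
    show swap b c (swap d e b) = c
    rw [swap_apply_of_ne_of_ne (Ne.symm hd.2.1) (Ne.symm he.2.1), swap_apply_left]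
  have g_c : g.1 c = b := by
    show swap b c (swap d e c) = b
    rw [swap_apply_of_ne_of_ne (Ne.symm hd.2.2) (Ne.symm he.2.2.1), swap_apply_right]
  have hyimg : ρ g y ∈ line ρ b c a := by
    have := line_map g hyL; rw [g_a, g_b, g_c] at this
    exact line_symm this
  have hy0 : y ≠ 0 := fun e => h.ne_zero b hb (by rw [← rho_inv_apply ρ T (w b), ← hy, e, map_zero])
  have heqL := Submodule.eq_of_le_of_finrank_le
    ((Submodule.span_singleton_le_iff_mem _ _).mpr hyL)
    (by rw [finrank_span_singleton hy0]; exact h.small.line_dim hbc hb hc)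
  rw [← heqL, Submodule.mem_span_singleton] at hyimg
  obtain ⟨ε, hε⟩ := hyimg
  have hh : ρ g y = -w c - γ • w b := by
    rw [hyv, map_sub, map_neg, map_smul, h.equiv g g_a b hb, h.equiv g g_a c hc, g_b, g_c]
  rw [hh, hyv] at hε
  obtain ⟨e1, e2⟩ := h.indep2 hb hc hbc (α := γ - ε) (β := 1 - ε * γ)
    (by linear_combination (norm := module) hε)
  have hεγ : ε = γ := (sub_eq_zero.mp e1).symm
  rw [hεγ] at e2
  refine ⟨γ, (sub_eq_zero.mp e2).symm, hyv, ?_⟩
  rw [← map_smul, ← hγ, hz, hy, ← rho_mul_apply, ← rho_mul_apply, c3_cube hab hac hbc, map_one,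
    Module.End.one_apply]

theorem Star.action' (h : Star ρ a w) {b c : Fin r} (hb : b ≠ a) (hc : c ≠ a) (hbc : b ≠ c) :
    ρ (c3 a b c) (w b) = -w b + w c ∧ ρ (c3 a b c) (w c) = -w b ∧
    ∀ d, d ≠ a → d ≠ b → d ≠ c → ρ (c3 a b c) (w d) = w d - w b := by
  obtain ⟨γ, hγ2, hTb, hTc⟩ := h.action hb hc hbc
  have hab := Ne.symm hb
  have hac := Ne.symm hc
  have hr := h.small.nine
  set T := c3 a b c with hT
  have Ta : T.1 a = b := c3_apply₁ hab hac hbc
  have Tb : T.1 b = c := c3_apply₂ hab hac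
  have Tc : T.1 c = a := c3_apply₃ hab hac hbc
  have hd' : ∀ d, d ≠ a → d ≠ b → d ≠ c → ρ T (w d) = -w b - γ • w d := by
    intro d hda hdb hdc
    obtain ⟨g, hg⟩ := exists_map ![a, b, c] ![a, b, d] (inj3 hab hac hbc)
      (inj3 hab (Ne.symm hda) (Ne.symm hdb)) (by omega)
    have h1 : g.1 a = a := hg 0
    have h2 : g.1 b = b := hg 1
    have h3 : g.1 c = d := hg 2
    have hT' : g * T * g⁻¹ = c3 a b d := by rw [hT, c3_conj, h1, h2, h3]
    have hTd : T.1 d = d := c3_apply_ne hda hdb hdc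
    have hq : ρ (T⁻¹ * c3 a b d) (w b) = w d := by
      rw [h.equiv _ ?_ b hb]
      · congr 1
        show T.1⁻¹ ((c3 a b d).1 b) = d
        rw [c3_apply₂ hab (Ne.symm hda)]
        exact Perm.inv_eq_iff_eq.mpr hTd.symm
      · show T.1⁻¹ ((c3 a b d).1 a) = a
        rw [c3_apply₁ hab (Ne.symm hda) (Ne.symm hdb)]
        exact Perm.inv_eq_iff_eq.mpr Ta.symm
    rw [← hq, ← rho_mul_apply, mul_inv_cancel_left]
    calc ρ (c3 a b d) (w b) = ρ g (ρ T (ρ g⁻¹ (w b))) := by rw [← hT', rho_mul_apply, rho_mul_apply]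
      _ = ρ g (ρ T (w b)) := by
        congr 2
        conv_lhs => rw [← show g.1 b = b from h2, ← h.equiv g h1 b hb]
        exact rho_inv_apply ρ g _
      _ = _ := by rw [hTb, map_sub, map_neg, map_smul, h.equiv g h1 b hb, h.equiv g h1 c hc, h2, h3, hq]
  have hγ : γ = -1 := by
    obtain ⟨d, hd⟩ := exists_outside {a, b, c} (lt_of_le_of_lt Finset.card_le_three (by omega))
    simp only [Finset.mem_insert, Finset.mem_singleton, not_or] at hd
    obtain ⟨hda, hdb, hdc⟩ := hd
    have hTd : T.1 d = d := c3_apply_ne hda hdb hdc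
    have hv : ρ T (ρ T (w d)) ∈ tri ρ a c d := by
      have h1 := line_map T (line_map T (h.mem d b hda hb (Ne.symm hdb)))
      simp only [Ta, Tb, Tc, hTd] at h1
      have e : tri ρ c d a = tri ρ a c d := by
        show moved ρ _ = moved ρ _
        congr 1; ext; simp; tauto
      exact e ▸ h1.1
    obtain ⟨α, β, hab'⟩ := h.span_tri hc hda (Ne.symm hdc) hv
    rw [hd' d hda hdb hdc, map_sub, map_neg, map_smul, hTb, hd' d hda hdb hdc] at hab'
    obtain ⟨e1, -, -⟩ := h.indep3 hb hc hda hbc (Ne.symm hdb) (Ne.symm hdc) (α := 1 + γ) (β := γ - α)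
      (γ := γ * γ - β) (by linear_combination (norm := module) hab')
    exact eq_neg_of_add_eq_zero_right e1
  subst hγ
  refine ⟨by rw [hTb]; module, ?_, fun d h1 h2 h3 => by rw [hd' d h1 h2 h3]; module⟩
  rw [← hTc]; module

/-- The bound. -/
theorem Disjointly.bound (hρ : Disjointly ρ) (hr : 9 ≤ r) :
    r ≤ Module.finrank k V + 1 ∨ ((r : k) = 0 ∧ r ≤ Module.finrank k V + 2) := by
  classical
  by_cases hdone : r ≤ Module.finrank k V + 1
  · exact Or.inl hdone
  set n := Module.finrank k V with hn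
  have hs : Small ρ := ⟨hρ, hr, by omega⟩
  obtain ⟨a, w, h⟩ := hs.exists_star
  set X : Finset (Fin r) := Finset.univ.erase a with hXdef
  have hXcard : X.card = r - 1 := by
    rw [hXdef, Finset.card_erase_of_mem (Finset.mem_univ _), Finset.card_univ, Fintype.card_fin]
  obtain ⟨b₀, hb⟩ := exists_outside {a} (by simp; omega)
  obtain ⟨c₀, hc⟩ := exists_outside {a, b₀} (lt_of_le_of_lt Finset.card_le_two (by omega))
  simp only [Finset.mem_insert, Finset.mem_singleton, not_or] at hb hc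
  have hb0X : b₀ ∈ X := Finset.mem_erase.mpr ⟨hb, Finset.mem_univ _⟩
  have hcX : c₀ ∈ X.erase b₀ :=
    Finset.mem_erase.mpr ⟨hc.2, Finset.mem_erase.mpr ⟨hc.1, Finset.mem_univ _⟩⟩
  have hli : ∀ (S : Finset (Fin r)), S ⊆ X → S ≠ X → LinearIndependent k fun i : S => w i := by
    intro S hS hne
    obtain ⟨o, ho, ho'⟩ := Finset.exists_of_ssubset (Finset.ssubset_iff_subset_ne.mpr ⟨hS, hne⟩)
    rw [Fintype.linearIndependent_iff]
    intro α hα i
    let cc : Fin r → k := fun t => if h : t ∈ S then α ⟨t, h⟩ else 0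
    have hsum : ∑ t ∈ X, cc t • w t = 0 := by
      rw [← Finset.sum_subset hS (fun t _ ht => by simp [cc, ht]), ← hα, ← Finset.sum_coe_sort S]
      exact Finset.sum_congr rfl fun t _ => by simp [cc]
    simpa [cc, ho'] using h.rel cc hsum i.1 (hS i.2) o ho
  have hn2 : r ≤ n + 2 := by
    have hne : X.erase b₀ ≠ X := fun e => Finset.notMem_erase b₀ X (e.symm ▸ hb0X)
    have := (hli _ (Finset.erase_subset b₀ X) hne).fintype_card_le_finrank
    rw [Fintype.card_coe, Finset.card_erase_of_mem hb0X, hXcard] at this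
    omega
  by_cases hS : ∑ t ∈ X, w t = 0
  · refine Or.inr ⟨?_, hn2⟩
    obtain ⟨h1, h2, h3⟩ := h.action' hb hc.1 (Ne.symm hc.2)
    have hq := congrArg (ρ (c3 a b₀ c₀)) hS
    rw [map_sum, map_zero, ← Finset.add_sum_erase _ _ hb0X, ← Finset.add_sum_erase _ _ hcX, h1, h2,
      Finset.sum_congr rfl (fun t ht => h3 t
        (Finset.ne_of_mem_erase (Finset.mem_of_mem_erase (Finset.mem_of_mem_erase ht)))
        (Finset.ne_of_mem_erase (Finset.mem_of_mem_erase ht)) (Finset.ne_of_mem_erase ht)),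
      Finset.sum_sub_distrib, Finset.sum_const] at hq
    rw [← Finset.add_sum_erase _ _ hb0X, ← Finset.add_sum_erase _ _ hcX] at hS
    have hcard : ((X.erase b₀).erase c₀).card + 3 = r := by
      rw [Finset.card_erase_of_mem hcX, Finset.card_erase_of_mem hb0X, hXcard]; omega
    rw [← Nat.cast_smul_eq_nsmul k] at hq
    have h' : (((((X.erase b₀).erase c₀).card + 3 : ℕ)) : k) • w b₀ = 0 := by
      push_cast
      linear_combination (norm := module) hS - hq
    rw [hcard] at h'
    exact (smul_eq_zero.mp h').resolve_right (h.ne_zero b₀ hb)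
  · refine Or.inl ?_
    have hli' : LinearIndependent k fun i : X => w i := by
      rw [Fintype.linearIndependent_iff]
      intro α hα i
      let cc : Fin r → k := fun t => if h : t ∈ X then α ⟨t, h⟩ else 0
      have hsum : ∑ t ∈ X, cc t • w t = 0 := by
        rw [← hα, ← Finset.sum_coe_sort X]
        exact Finset.sum_congr rfl fun t _ => by simp [cc]
      have hconst : ∀ t ∈ X, cc t = cc i.1 := fun t ht => h.rel cc hsum t ht i.1 i.2
      rw [Finset.sum_congr rfl (fun t ht => by rw [hconst t ht]), ← Finset.smul_sum] at hsum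
      simpa [cc] using (smul_eq_zero.mp hsum).resolve_right hS
    have := hli'.fintype_card_le_finrank
    rw [Fintype.card_coe, hXcard] at this
    omega

end Cfsg.Lib.AltMinDim
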