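import Mathlib

/-!
# Simultaneous eigenvectors and invariant subspaces
-/

set_option autoImplicit false
set_option linter.unusedSectionVars false

namespace Cfsg.Lib.AltMinDim

variable {k : Type*} [Field k] {V : Type*} [AddCommGroup V] [Module k V]

/-- Nonzero vectors with pairwise different simultaneous eigenvalue functions are independent. -/
theorem linearIndependent_of_weights {ι J : Type*} (f : J → Module.End k V) (v : ι → V) (χ : ι → J → k)
    (hv : ∀ i, v i ≠ 0) (he : ∀ i j, f j (v i) = χ i j • v i) (hχ : Function.Injective χ) :
    LinearIndependent k v := by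
  classical
  rw [linearIndependent_iff']
  intro s
  induction s using Finset.induction_on with
  | empty => simp
  | @insert a s ha ih =>
    intro g hg
    rw [Finset.sum_insert ha] at hg
    have hzero : ∀ i ∈ s, g i = 0 := by
      intro i hi
      obtain ⟨j, hj⟩ : ∃ j, χ i j ≠ χ a j :=
        Function.ne_iff.mp fun h => ha (hχ h ▸ hi)
      have h1 : ∑ i ∈ s, (g i * (χ i j - χ a j)) • v i = 0 := by
        have h2 := congrArg (fun w => f j w - χ a j • w) hg
        simp only [map_add, map_sum, map_smul, he, smul_add, Finset.smul_sum, map_zero, smul_zero,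
          sub_zero] at h2
        rw [← h2]
        have e : g a • χ a j • v a = χ a j • g a • v a := smul_comm _ _ _
        rw [e, add_sub_add_left_eq_sub, ← Finset.sum_sub_distrib]
        exact Finset.sum_congr rfl fun i _ => by rw [mul_sub, sub_smul, mul_smul, mul_comm (g i), mul_smul]
      have := ih _ h1 i hi
      exact (mul_eq_zero.mp this).resolve_right (sub_ne_zero.mpr hj)
    rw [Finset.sum_eq_zero (fun i hi => by rw [hzero i hi, zero_smul]), add_zero] at hg
    intro i hi
    rcases Finset.mem_insert.mp hi with rfl | hi
    · exact (smul_eq_zero.mp hg).resolve_right (hv _)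
    · exact hzero i hi

variable [FiniteDimensional k V]

/-- The number of simultaneous weights is bounded by the dimension. -/
theorem card_weights_le {ι J : Type*} [Fintype ι] (f : J → Module.End k V) (χ : ι → J → k)
    (hex : ∀ i, ∃ v : V, v ≠ 0 ∧ ∀ j, f j v = χ i j • v) (hχ : Function.Injective χ) :
    Fintype.card ι ≤ Module.finrank k V := by
  choose v hv he using hex
  exact (linearIndependent_of_weights f v χ hv he hχ).fintype_card_le_finrank

/-- The eigenspaces of an endomorphism for different scalars: dimensions add up. -/
theorem sum_eigenspace_le (f : Module.End k V) (s : Finset k) :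
    ∑ μ ∈ s, Module.finrank k (f.eigenspace μ) ≤ Module.finrank k V := by
  classical
  let ι := Σ μ : s, Fin (Module.finrank k (f.eigenspace (μ : k)))
  let v : ι → V := fun i => (Module.finBasis k (f.eigenspace (i.1 : k)) i.2 : V)
  have hv : LinearIndependent k v := by
    have hi : iSupIndep fun μ : s => f.eigenspace (μ : k) :=
      f.eigenspaces_iSupIndep.comp Subtype.val_injective
    let w : (μ : s) → Fin (Module.finrank k (f.eigenspace (μ : k))) → V :=
      fun μ j => (Module.finBasis k (f.eigenspace (μ : k)) j : V)
    have h1 : ∀ μ, LinearIndependent k (w μ) := fun μ =>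
      (Module.finBasis k (f.eigenspace (μ : k))).linearIndependent.map' (f.eigenspace (μ : k)).subtype (by simp)
    have h2 : ∀ μ, Submodule.span k (Set.range (w μ)) ≤ f.eigenspace (μ : k) := fun μ =>
      Submodule.span_le.mpr (Set.range_subset_iff.mpr fun j => (Module.finBasis k (f.eigenspace (μ : k)) j).2)
    exact linearIndependent_iUnion_finite h1 fun μ t _ hμ => by
      refine Disjoint.mono (h2 μ) ?_ ((hi μ))
      exact iSup₂_le fun x hx => le_iSup₂_of_le x (by rintro rfl; exact hμ hx) (h2 x)
  have := hv.fintype_card_le_finrank
  simpa [ι, Fintype.card_sigma, Finset.sum_attach s fun μ => Module.finrank k (f.eigenspace μ)] using this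

end Cfsg.Lib.AltMinDim
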