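import Mathlib
import Cfsg.Agent.Known.AltMinDim.Weights

/-!
# Eigenvectors of operators of finite order coprime to the characteristic
-/

set_option autoImplicit false
set_option linter.unusedSectionVars false

namespace Cfsg.Lib.AltMinDim

variable {k : Type*} [Field k] {V : Type*} [AddCommGroup V] [Module k V]

theorem sum_zeta_zero {l : ℕ} (hl : 0 < l) {ζ : k} (hζ : IsPrimitiveRoot ζ l) {i : ℕ} (hi : i < l)
    (hi0 : i ≠ 0) : ∑ j ∈ Finset.range l, (ζ ^ j) ^ i = 0 := by
  have h1 : ζ ^ i ≠ 1 := hζ.pow_ne_one_of_pos_of_lt hi0 hi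
  have h2 := mul_geom_sum (ζ ^ i) l
  rw [← pow_mul, mul_comm i l, pow_mul, hζ.pow_eq_one, one_pow, sub_self] at h2
  rw [← (mul_eq_zero.mp h2).resolve_left (sub_ne_zero.mpr h1)]
  exact Finset.sum_congr rfl fun j _ => by rw [← pow_mul, ← pow_mul, mul_comm]

/-- Decomposition into eigenvectors, inside any invariant subspace. -/
theorem exists_decomp {l : ℕ} (hl : 0 < l) (hlk : (l : k) ≠ 0) {ζ : k} (hζ : IsPrimitiveRoot ζ l)
    {f : Module.End k V} (hf : f ^ l = 1) {W : Submodule k V} (hW : ∀ w ∈ W, f w ∈ W) {v : V} (hv : v ∈ W) :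
    ∃ u : ℕ → V, (∀ j, u j ∈ W) ∧ (∀ j, f (u j) = ζ ^ j • u j) ∧ ∑ j ∈ Finset.range l, u j = v := by
  have hpow : ∀ i, (f ^ i) v ∈ W := by
    intro i
    induction i with
    | zero => simpa using hv
    | succ i ih => rw [pow_succ', Module.End.mul_apply]; exact hW _ ih
  have hz : ζ ≠ 0 := hζ.ne_zero hl.ne'
  refine ⟨fun j => (l : k)⁻¹ • ∑ i ∈ Finset.range l, ((ζ ^ j)⁻¹) ^ i • (f ^ i) v,
    fun j => W.smul_mem _ (sum_mem fun i _ => W.smul_mem _ (hpow i)), fun j => ?_, ?_⟩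
  · rw [map_smul, smul_comm (ζ ^ j), map_sum, Finset.smul_sum (r := ζ ^ j)]
    congr 1
    obtain ⟨l', rfl⟩ : ∃ l', l = l' + 1 := ⟨l - 1, by omega⟩
    have hzj : ζ ^ j ≠ 0 := pow_ne_zero _ hz
    have hstep : ∀ i, f (((ζ ^ j)⁻¹) ^ i • (f ^ i) v) = (ζ ^ j) • ((ζ ^ j)⁻¹) ^ (i + 1) • (f ^ (i + 1)) v := by
      intro i
      rw [map_smul, ← Module.End.mul_apply, ← pow_succ', smul_smul, pow_succ' (ζ ^ j)⁻¹, ← mul_assoc,
        mul_inv_cancel₀ hzj, one_mul]
    rw [Finset.sum_congr rfl fun i _ => hstep i]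
    rw [Finset.sum_range_succ, Finset.sum_range_succ' (fun i => ζ ^ j • ((ζ ^ j)⁻¹) ^ i • (f ^ i) v)]
    congr 1
    have : ((ζ ^ j)⁻¹) ^ (l' + 1) = 1 := by
      rw [inv_pow, ← pow_mul, mul_comm, pow_mul, hζ.pow_eq_one, one_pow, inv_one]
    rw [this, hf, pow_zero, pow_zero]
  · rw [← Finset.smul_sum, Finset.sum_comm, Finset.sum_eq_single 0]
    · simp only [pow_zero, one_smul, Finset.sum_const, Finset.card_range, Module.End.one_apply]
      rw [← Nat.cast_smul_eq_nsmul k, smul_smul, inv_mul_cancel₀ hlk, one_smul]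
    · intro i hi hi0
      rw [← Finset.sum_smul]
      have h0 := sum_zeta_zero hl hζ.inv (Finset.mem_range.mp hi) hi0
      rw [Finset.sum_congr rfl (fun j _ => by rw [← inv_pow ζ j]), h0, zero_smul]
    · intro h; exact absurd (Finset.mem_range.mpr hl) h

/-- An operator fixing the eigenvectors for nontrivial eigenvalues fixes the moved space. -/
theorem fix_sub {l : ℕ} (hl : 0 < l) (hlk : (l : k) ≠ 0) {ζ : k} (hζ : IsPrimitiveRoot ζ l)
    {f g : Module.End k V} (hf : f ^ l = 1)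
    (h : ∀ j, 0 < j → j < l → ∀ u, f u = ζ ^ j • u → g u = u) (v : V) : g (f v - v) = f v - v := by
  obtain ⟨u, -, hu, rfl⟩ := exists_decomp hl hlk hζ hf (W := ⊤) (fun _ _ => Submodule.mem_top)
    (v := v) Submodule.mem_top
  rw [map_sum f, ← Finset.sum_sub_distrib, map_sum g]
  refine Finset.sum_congr rfl fun j hj => ?_
  rcases Nat.eq_zero_or_pos j with rfl | hpos
  · rw [hu, pow_zero, one_smul, sub_self, map_zero]
  · rw [hu, show ζ ^ j • u j - u j = (ζ ^ j - 1) • u j by rw [sub_smul, one_smul], map_smul,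
      h j hpos (Finset.mem_range.mp hj) _ (hu j)]

/-- A nonzero invariant subspace contains an eigenvector. -/
theorem exists_eigen {l : ℕ} (hl : 0 < l) (hlk : (l : k) ≠ 0) {ζ : k} (hζ : IsPrimitiveRoot ζ l)
    {f : Module.End k V} (hf : f ^ l = 1) {W : Submodule k V} (hW : ∀ w ∈ W, f w ∈ W) {v : V} (hv : v ∈ W)
    (hv0 : v ≠ 0) : ∃ j, j < l ∧ ∃ u ∈ W, u ≠ 0 ∧ f u = ζ ^ j • u := by
  obtain ⟨u, hu1, hu2, hu3⟩ := exists_decomp hl hlk hζ hf hW hv
  obtain ⟨j, hj, hne⟩ := Finset.exists_ne_zero_of_sum_ne_zero (hu3 ▸ hv0)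
  exact ⟨j, Finset.mem_range.mp hj, u j, hu1 j, hne, hu2 j⟩

/-- A nontrivially acted invariant subspace contains an eigenvector for a nontrivial eigenvalue. -/
theorem exists_eigen_ne_one {l : ℕ} (hl : 0 < l) (hlk : (l : k) ≠ 0) {ζ : k} (hζ : IsPrimitiveRoot ζ l)
    {f : Module.End k V} (hf : f ^ l = 1) {W : Submodule k V} (hW : ∀ w ∈ W, f w ∈ W) {v : V} (hv : v ∈ W)
    (hne : f v ≠ v) : ∃ j, 0 < j ∧ j < l ∧ ∃ u ∈ W, u ≠ 0 ∧ f u = ζ ^ j • u := by
  obtain ⟨u, hu1, hu2, hu3⟩ := exists_decomp hl hlk hζ hf hW hv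
  by_contra hall
  push Not at hall
  apply hne
  rw [← hu3, map_sum]
  refine Finset.sum_congr rfl fun j hj => ?_
  rcases Nat.eq_zero_or_pos j with rfl | hpos
  · rw [hu2, pow_zero, one_smul]
  · by_cases h0 : u j = 0
    · rw [h0, map_zero]
    · exact absurd (hu2 j) (hall j hpos (Finset.mem_range.mp hj) _ (hu1 j) h0)

theorem eigenspace_invariant {f g : Module.End k V} (h : Commute g f) (μ : k) :
    ∀ w ∈ f.eigenspace μ, g w ∈ f.eigenspace μ := by
  intro w hw
  rw [Module.End.mem_eigenspace_iff] at hw ⊢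
  rw [← Module.End.mul_apply, ← h.eq, Module.End.mul_apply, hw, map_smul]

variable [FiniteDimensional k V]

/-- An injective operator intertwining two operators compares their eigenspaces. -/
theorem eigen_dim_le {f f' g : Module.End k V} (hg : Function.Injective g) (h : g * f = f' * g) (μ : k) :
    Module.finrank k (f.eigenspace μ) ≤ Module.finrank k (f'.eigenspace μ) := by
  let e : f.eigenspace μ →ₗ[k] f'.eigenspace μ := (g.comp (f.eigenspace μ).subtype).codRestrict _ fun x => by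
    rw [Module.End.mem_eigenspace_iff]
    show f' (g x.1) = μ • g x.1
    rw [← Module.End.mul_apply, ← h, Module.End.mul_apply, Module.End.mem_eigenspace_iff.mp x.2, map_smul]
  exact LinearMap.finrank_le_finrank_of_injective (f := e) fun x y hxy =>
    Subtype.ext (hg (congrArg Subtype.val hxy))

/-- Vectors of an invariant subspace with different eigenvalues. -/
theorem card_le_finrank_of_eigen {ι : Type*} [Fintype ι] (f : Module.End k V) (W : Submodule k V) (χ : ι → k)
    (hex : ∀ i, ∃ v ∈ W, v ≠ 0 ∧ f v = χ i • v) (hχ : Function.Injective χ) :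
    Fintype.card ι ≤ Module.finrank k W := by
  choose v hvW hv he using hex
  have h := linearIndependent_of_weights (J := Unit) (fun _ => f) v (fun i _ => χ i) hv (fun i _ => he i)
    fun i j hij => hχ (congrFun hij ())
  exact (LinearIndependent.of_comp W.subtype (v := fun i => (⟨v i, hvW i⟩ : W)) h).fintype_card_le_finrank

end Cfsg.Lib.AltMinDim
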