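import Mathlib
import Cfsg.Agent.Known.AltMinDim.Perms

/-!
# Lifts of odd order in double covers, and even permutations along embeddings
-/

set_option autoImplicit false
set_option linter.unusedSectionVars false
set_option linter.style.haveILetI false

namespace Cfsg.Lib.AltMinDim

open Equiv

variable {r m : ℕ}

/-- Even permutations of few points acting along an embedding. -/
noncomputable def viaHom (ι : Fin m ↪ Fin r) : Alt m →* Alt r where
  toFun σ := viaPerm ι σ.1 (Perm.mem_alternatingGroup.mp σ.2)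
  map_one' := Subtype.ext (map_one (Perm.viaEmbeddingHom ι))
  map_mul' σ τ := Subtype.ext (map_mul (Perm.viaEmbeddingHom ι) σ.1 τ.1)

theorem viaHom_apply (ι : Fin m ↪ Fin r) (σ : Alt m) (i : Fin m) : (viaHom ι σ).1 (ι i) = ι (σ.1 i) :=
  viaPerm_apply ι σ.1 (Perm.mem_alternatingGroup.mp σ.2) i

theorem viaHom_apply_out (ι : Fin m ↪ Fin r) (σ : Alt m) {x : Fin r} (hx : x ∉ Set.range ι) :
    (viaHom ι σ).1 x = x :=
  viaPerm_apply_out ι σ.1 (Perm.mem_alternatingGroup.mp σ.2) hx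

theorem viaHom_injective (ι : Fin m ↪ Fin r) : Function.Injective (viaHom ι) := fun σ τ h =>
  Subtype.ext (Equiv.ext fun i => ι.injective (by rw [← viaHom_apply, ← viaHom_apply, h]))

theorem viaHom_ext {ι : Fin m ↪ Fin r} {σ : Alt m} {g : Alt r} (h₁ : ∀ i, g.1 (ι i) = ι (σ.1 i))
    (h₂ : ∀ x, x ∉ Set.range ι → g.1 x = x) : g = viaHom ι σ := by
  apply Subtype.ext
  refine Equiv.ext fun x => ?_
  by_cases hx : x ∈ Set.range ι
  · obtain ⟨i, rfl⟩ := hx
    rw [h₁, viaHom_apply]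
  · rw [h₂ x hx, viaHom_apply_out ι σ hx]

/-- Transporting the points of an embedding. -/
def move (g : Alt r) (ι : Fin m ↪ Fin r) : Fin m ↪ Fin r := ι.trans g.1.toEmbedding

theorem move_apply (g : Alt r) (ι : Fin m ↪ Fin r) (i : Fin m) : move g ι i = g.1 (ι i) := rfl

theorem viaHom_conj (g : Alt r) (ι : Fin m ↪ Fin r) (σ : Alt m) :
    g * viaHom ι σ * g⁻¹ = viaHom (move g ι) σ := by
  refine viaHom_ext (fun i => ?_) (fun x hx => ?_)
  · show g.1 ((viaHom ι σ).1 (g.1⁻¹ (g.1 (ι i)))) = g.1 (ι (σ.1 i))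
    rw [show g.1⁻¹ (g.1 (ι i)) = ι i from Equiv.symm_apply_apply _ _, viaHom_apply]
  · show g.1 ((viaHom ι σ).1 (g.1⁻¹ x)) = x
    rw [viaHom_apply_out, ← Perm.mul_apply, mul_inv_cancel, Perm.one_apply]
    rintro ⟨i, hi⟩
    exact hx ⟨i, by rw [move_apply, hi, ← Perm.mul_apply, mul_inv_cancel, Perm.one_apply]⟩

theorem viaHom_congr {ι ι' : Fin m ↪ Fin r} (h : ∀ i, ι i = ι' i) (σ : Alt m) : viaHom ι σ = viaHom ι' σ := by
  rw [Function.Embedding.ext h]

theorem viaHom_commute {g : Alt r} {ι : Fin m ↪ Fin r} (h : ∀ i, g.1 (ι i) = ι i) (σ : Alt m) :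
    Commute g (viaHom ι σ) := by
  have e := viaHom_conj g ι σ
  rw [viaHom_congr (ι := move g ι) (ι' := ι) h σ] at e
  exact mul_inv_eq_iff_eq_mul.mp e

/-- Renaming the points by a permutation. -/
theorem viaHom_reindex (ι : Fin m ↪ Fin r) (τ : Perm (Fin m)) {σ σ' : Alt m}
    (h : ∀ i, σ'.1 (τ i) = τ (σ.1 i)) : viaHom (τ.toEmbedding.trans ι) σ = viaHom ι σ' := by
  refine viaHom_ext (fun i => ?_) (fun x hx => ?_)
  · obtain ⟨j, rfl⟩ := τ.surjective i
    show (viaHom (τ.toEmbedding.trans ι) σ).1 ((τ.toEmbedding.trans ι) j) = _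
    rw [viaHom_apply]
    show ι (τ (σ.1 j)) = _
    rw [h]
  · refine viaHom_apply_out _ _ ?_
    rintro ⟨j, hj⟩
    exact hx ⟨τ j, hj⟩

theorem c3_eq_viaHom (ι : Fin m ↪ Fin r) {a b c : Fin m} (hab : a ≠ b) (hac : a ≠ c) (hbc : b ≠ c) :
    c3 (ι a) (ι b) (ι c) = viaHom ι (c3 a b c) := by
  have h1 := ι.injective.ne hab
  have h2 := ι.injective.ne hac
  have h3 := ι.injective.ne hbc
  refine viaHom_ext (fun i => ?_) (fun x hx => ?_)
  · by_cases ha : i = a
    · rw [ha, c3_apply₁ h1 h2 h3, c3_apply₁ hab hac hbc]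
    by_cases hb : i = b
    · rw [hb, c3_apply₂ h1 h2, c3_apply₂ hab hac]
    by_cases hc : i = c
    · rw [hc, c3_apply₃ h1 h2 h3, c3_apply₃ hab hac hbc]
    rw [c3_apply_ne (ι.injective.ne ha) (ι.injective.ne hb) (ι.injective.ne hc), c3_apply_ne ha hb hc]
  · exact c3_apply_ne (fun e => hx ⟨a, e.symm⟩) (fun e => hx ⟨b, e.symm⟩) (fun e => hx ⟨c, e.symm⟩)

theorem c3_pow_three {a b c : Fin r} (hab : a ≠ b) (hac : a ≠ c) (hbc : b ≠ c) : c3 a b c ^ 3 = 1 := by
  apply Subtype.ext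
  rw [SubmonoidClass.coe_pow, c3_val hab hac, OneMemClass.coe_one]
  exact Schur.Alt.cyc_pow_three hab hac hbc

/-- A double cover of an alternating group. -/
structure Cover {Γ : Type*} [Group Γ] (π : Γ →* Alt r) : Prop where
  surj : Function.Surjective π
  central : π.ker ≤ Subgroup.center Γ
  perfect : commutator Γ = ⊤
  sq : ∀ z : Γ, π z = 1 → z ^ 2 = 1

namespace Cover

variable {Γ : Type*} [Group Γ] {π : Γ →* Alt r}

/-- The lift of odd order. -/
noncomputable def lift (h : Cover π) (l : ℕ) (σ : Alt r) : Γ := Function.surjInv h.surj σ ^ (l + 1)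

theorem commute_ker (h : Cover π) {z : Γ} (hz : π z = 1) (g : Γ) : Commute g z :=
  Subgroup.mem_center_iff.mp (h.central hz) g

variable {l : ℕ}

theorem ker_pow_succ (h : Cover π) (hl : Odd l) {z : Γ} (hz : π z = 1) : z ^ (l + 1) = 1 := by
  obtain ⟨j, hj⟩ := hl
  rw [show l + 1 = 2 * (j + 1) by omega, pow_mul, h.sq z hz, one_pow]

theorem map_lift (h : Cover π) {σ : Alt r} (hσ : σ ^ l = 1) : π (h.lift l σ) = σ := by
  rw [lift, map_pow, Function.surjInv_eq h.surj, pow_succ, hσ, one_mul]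

theorem lift_pow (h : Cover π) (hl : Odd l) {σ : Alt r} (hσ : σ ^ l = 1) : h.lift l σ ^ l = 1 := by
  rw [lift, ← pow_mul, mul_comm, pow_mul]
  exact h.ker_pow_succ hl (by rw [map_pow, Function.surjInv_eq h.surj, hσ])

theorem eq_lift (h : Cover π) (hl : Odd l) {σ : Alt r} {g : Γ} (hg : π g = σ) (hgl : g ^ l = 1) :
    g = h.lift l σ := by
  have hσ : σ ^ l = 1 := by rw [← hg, ← map_pow, hgl, map_one]
  have hz : π ((h.lift l σ)⁻¹ * g) = 1 := by rw [map_mul, map_inv, h.map_lift hσ, hg, inv_mul_cancel]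
  set L := h.lift l σ with hL
  set z := L⁻¹ * g with hzdef
  have hg' : g = L * z := by rw [hzdef, mul_inv_cancel_left]
  have hzl : z ^ l = 1 := by
    rw [hg', (h.commute_ker hz L).mul_pow, hL, h.lift_pow hl hσ, one_mul] at hgl
    exact hgl
  have := h.ker_pow_succ hl hz
  rw [pow_succ, hzl, one_mul] at this
  rw [hg', this, mul_one]

theorem pow_eq_lift (h : Cover π) (hl : Odd l) {σ : Alt r} {g : Γ} (hg : π g = σ) (hσ : σ ^ l = 1) :
    g ^ (l + 1) = h.lift l σ := by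
  refine h.eq_lift hl (by rw [map_pow, hg, pow_succ, hσ, one_mul]) ?_
  rw [← pow_mul, mul_comm, pow_mul]
  exact h.ker_pow_succ hl (by rw [map_pow, hg, hσ])

theorem lift_npow (h : Cover π) (hl : Odd l) {σ : Alt r} (hσ : σ ^ l = 1) (j : ℕ) :
    h.lift l σ ^ j = h.lift l (σ ^ j) :=
  h.eq_lift hl (by rw [map_pow, h.map_lift hσ]) (by rw [← pow_mul, mul_comm, pow_mul, h.lift_pow hl hσ, one_pow])

theorem lift_inv (h : Cover π) (hl : Odd l) {σ : Alt r} (hσ : σ ^ l = 1) :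
    (h.lift l σ)⁻¹ = h.lift l σ⁻¹ :=
  h.eq_lift hl (by rw [map_inv, h.map_lift hσ]) (by rw [inv_pow, h.lift_pow hl hσ, inv_one])

theorem conj_lift (h : Cover π) (hl : Odd l) {σ : Alt r} (hσ : σ ^ l = 1) (g : Γ) :
    g * h.lift l σ * g⁻¹ = h.lift l (π g * σ * (π g)⁻¹) :=
  h.eq_lift hl (by rw [map_mul, map_mul, map_inv, h.map_lift hσ])
    (by rw [conj_pow, h.lift_pow hl hσ, mul_one, mul_inv_cancel])

theorem commute_lift (h : Cover π) (hl : Odd l) {σ : Alt r} (hσ : σ ^ l = 1) {g : Γ}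
    (hg : Commute (π g) σ) : Commute g (h.lift l σ) := by
  have e := h.conj_lift hl hσ g
  rw [hg.eq, mul_inv_cancel_right] at e
  exact mul_inv_eq_iff_eq_mul.mp e

theorem commute_lifts (h : Cover π) {l' : ℕ} (hl : Odd l) {σ τ : Alt r}
    (hσ : σ ^ l = 1) (hτ : τ ^ l' = 1) (hc : Commute τ σ) : Commute (h.lift l' τ) (h.lift l σ) :=
  h.commute_lift hl hσ (by rw [h.map_lift hτ]; exact hc)

theorem lift_ne_one (h : Cover π) {σ : Alt r} (hσ : σ ^ l = 1) (hne : σ ≠ 1) : h.lift l σ ≠ 1 := fun e =>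
  hne (by rw [← h.map_lift (π := π) hσ, e, map_one])

end Cover

end Cfsg.Lib.AltMinDim
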