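import Mathlib
import Cfsg.Agent.Known.AltMinDim.Lifts
import Cfsg.Agent.Known.AltMinDim.Eigen
import Cfsg.Agent.Known.AltMinDim.Deleted

/-!
# Irreducible representations of covers of alternating groups: common tools
-/

set_option autoImplicit false
set_option linter.unusedSectionVars false
set_option linter.style.haveILetI false

namespace Cfsg.Lib.AltMinDim

open Equiv

/-- The dimension bound. -/
def Bound (k : Type*) [Field k] (r n : ℕ) : Prop := r ≤ n + 1 ∨ ((r : k) = 0 ∧ r ≤ n + 2)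

theorem Bound.le_add_two {k : Type*} [Field k] {r n : ℕ} (h : Bound k r n) : r ≤ n + 2 := by
  rcases h with h | h
  · omega
  · exact h.2

theorem Bound.mono {k : Type*} [Field k] {r n n' : ℕ} (h : Bound k r n) (hn : n ≤ n') : Bound k r n' :=
  h.imp (fun h => h.trans (by omega)) fun h => ⟨h.1, h.2.trans (by omega)⟩

/-- The statement in degree `r`. -/
def Main (r : ℕ) : Prop :=
  ∀ (Δ : Type) [Group Δ] [Finite Δ] (f : Δ →* Alt r), Function.Surjective f →
    ∀ (k : Type) [Field k] [IsAlgClosed k] (W : Type) [AddCommGroup W] [Module k W] [FiniteDimensional k W]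
      (φ : Δ →* Module.End k W), (∀ g, φ g = 1 → f g = 1) → Bound k r (Module.finrank k W)

/-- Even permutations fixing everything outside the range of an embedding come from it. -/
theorem exists_viaHom_eq {m r : ℕ} (ι : Fin m ↪ Fin r) (g : Alt r)
    (hg : ∀ x, x ∉ Set.range ι → g.1 x = x) : ∃ σ, viaHom ι σ = g := by
  have h : CycOn (viaHom ι).range (Finset.univ.map ι) := by
    intro a ha b hb c hc hab hac hbc
    obtain ⟨a, -, rfl⟩ := Finset.mem_map.mp ha
    obtain ⟨b, -, rfl⟩ := Finset.mem_map.mp hb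
    obtain ⟨c, -, rfl⟩ := Finset.mem_map.mp hc
    exact ⟨c3 a b c, (c3_eq_viaHom ι (fun e => hab (congrArg ι e)) (fun e => hac (congrArg ι e))
      fun e => hbc (congrArg ι e)).symm⟩
  exact h.mem g fun x hx => hg x fun ⟨i, hi⟩ => hx (Finset.mem_map.mpr ⟨i, Finset.mem_univ _, hi⟩)

/-- Two tuples given as lists. -/
theorem exists_map_list {r : ℕ} (L L' : List (Fin r)) (h : L.Nodup) (h' : L'.Nodup)
    (hlen : L.length = L'.length) (hm : L.length + 2 ≤ r) : ∃ g : Alt r, L.map g.1 = L' := by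
  obtain ⟨g, hg⟩ := exists_map (fun i : Fin L.length => L[i.1]) (fun i : Fin L.length => L'[i.1]'(hlen ▸ i.2))
    (fun i j e => Fin.ext ((h.getElem_inj_iff (hi := i.2) (hj := j.2)).mp e))
    (fun i j e => Fin.ext ((h'.getElem_inj_iff (hi := hlen ▸ i.2) (hj := hlen ▸ j.2)).mp e)) hm
  refine ⟨g, List.ext_getElem (by simpa using hlen) fun i h1 h2 => ?_⟩
  rw [List.getElem_map]
  exact hg ⟨i, by simpa using h1⟩

variable {r : ℕ} {Γ : Type} [Group Γ] [Finite Γ] {k : Type} [Field k] [IsAlgClosed k]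
  {V : Type} [AddCommGroup V] [Module k V] [FiniteDimensional k V]
  {π : Γ →* Alt r} {ρ : Γ →* Module.End k V}

/-- A faithful irreducible representation of a cover. -/
structure Setup (π : Γ →* Alt r) (ρ : Γ →* Module.End k V) : Prop where
  cover : Cover π
  inj : Function.Injective ρ
  irred : ∀ W : Submodule k V, (∀ g, ∀ w ∈ W, ρ g w ∈ W) → W = ⊥ ∨ W = ⊤
  nine : 9 ≤ r

namespace Setup

/-- The operator of the lift of odd order. -/
noncomputable def op (hs : Setup π ρ) (l : ℕ) (σ : Alt r) : Module.End k V := ρ (hs.cover.lift l σ)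

theorem rho_inv_cancel (g : Γ) (v : V) : ρ g⁻¹ (ρ g v) = v := by
  rw [← Module.End.mul_apply, ← map_mul, inv_mul_cancel, map_one, Module.End.one_apply]

theorem rho_injective (g : Γ) : Function.Injective (ρ g) :=
  Function.LeftInverse.injective (g := ρ g⁻¹) fun v => rho_inv_cancel g v

variable {l : ℕ}

theorem op_pow (hs : Setup π ρ) (hl : Odd l) {σ : Alt r} (hσ : σ ^ l = 1) : hs.op l σ ^ l = 1 := by
  rw [op, ← map_pow, hs.cover.lift_pow hl hσ, map_one]

theorem op_ne_one (hs : Setup π ρ) {σ : Alt r} (hσ : σ ^ l = 1) (hne : σ ≠ 1) : hs.op l σ ≠ 1 := fun e =>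
  hs.cover.lift_ne_one hσ hne (hs.inj (e.trans (map_one ρ).symm))

theorem op_npow (hs : Setup π ρ) (hl : Odd l) {σ : Alt r} (hσ : σ ^ l = 1) (j : ℕ) :
    hs.op l σ ^ j = hs.op l (σ ^ j) := by
  rw [op, op, ← map_pow, hs.cover.lift_npow hl hσ]

theorem op_conj (hs : Setup π ρ) (hl : Odd l) {σ : Alt r} (hσ : σ ^ l = 1) (g : Γ) :
    ρ g * hs.op l σ = hs.op l (π g * σ * (π g)⁻¹) * ρ g := by
  rw [op, op, ← map_mul, ← map_mul, ← hs.cover.conj_lift hl hσ, inv_mul_cancel_right]

theorem op_comm (hs : Setup π ρ) (hl : Odd l) {σ : Alt r} (hσ : σ ^ l = 1) {g : Γ} (hg : Commute (π g) σ) :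
    Commute (ρ g) (hs.op l σ) := (hs.cover.commute_lift hl hσ hg).map ρ

theorem op_comm_op (hs : Setup π ρ) (hl : Odd l) {l' : ℕ} {σ τ : Alt r} (hσ : σ ^ l = 1) (hτ : τ ^ l' = 1)
    (hc : Commute τ σ) : Commute (hs.op l' τ) (hs.op l σ) := (hs.cover.commute_lifts hl hσ hτ hc).map ρ

theorem ker_eq_one (hs : Setup π ρ) {z : Γ} (hz : π z = 1) {v : V} (hv : v ≠ 0) (hfix : ρ z v = v) : z = 1 := by
  rcases hs.irred (LinearMap.ker (ρ z - 1)) (fun g w hw => by
      rw [LinearMap.mem_ker, LinearMap.sub_apply, Module.End.one_apply, sub_eq_zero] at hw ⊢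
      rw [← Module.End.mul_apply, ← map_mul, (hs.cover.commute_ker hz g).eq.symm, map_mul, Module.End.mul_apply,
        hw]) with h | h
  · exact absurd ((Submodule.eq_bot_iff _).mp h v (by simp [hfix])) hv
  · exact hs.inj ((sub_eq_zero.mp (LinearMap.ker_eq_top.mp h)).trans (map_one ρ).symm)

/-- Disjoint triples act on independent parts. -/
def Disj (hs : Setup π ρ) : Prop := ∀ a b c d e f : Fin r, [a, b, c, d, e, f].Nodup → ∀ v,
  hs.op 3 (c3 d e f) (hs.op 3 (c3 a b c) v - v) = hs.op 3 (c3 a b c) v - v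

theorem bound_of_disj (hs : Setup π ρ) (hd : hs.Disj) : Bound k r (Module.finrank k V) := by
  classical
  have hr := hs.nine
  have h3 : Odd 3 := ⟨1, rfl⟩
  obtain ⟨a, ha⟩ : ∃ a : Fin r, a = ⟨0, by omega⟩ := ⟨_, rfl⟩
  obtain ⟨b, hb⟩ : ∃ b : Fin r, b = ⟨1, by omega⟩ := ⟨_, rfl⟩
  have hab : a ≠ b := by subst ha hb; simp
  let pt : ℕ → Fin r := fun i => if hi : i + 2 < r then ⟨i + 2, hi⟩ else a
  let X : ℕ → Γ := fun i => hs.cover.lift 3 (c3 a b (pt i))
  have hpt : ∀ i < r - 2, pt i ≠ a ∧ pt i ≠ b := by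
    intro i hi
    simp only [pt, dif_pos (show i + 2 < r by omega), ha, hb]
    simp [Fin.ext_iff]
  have hsq : ∀ i j : Fin r, i ≠ a → i ≠ b → j ≠ a → j ≠ b → i ≠ j →
      (hs.cover.lift 3 (c3 a b i) * hs.cover.lift 3 (c3 a b j)) ^ 2 = 1 := by
    intro i j hia hib hja hjb hij
    have hi3 := c3_pow_three hab hia.symm hib.symm
    have hj3 := c3_pow_three hab hja.symm hjb.symm
    have hker : π ((hs.cover.lift 3 (c3 a b i) * hs.cover.lift 3 (c3 a b j)) ^ 2) = 1 := by
      rw [map_pow, map_mul, hs.cover.map_lift hi3, hs.cover.map_lift hj3]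
      apply Subtype.ext
      rw [SubmonoidClass.coe_pow, OneMemClass.coe_one, Subgroup.coe_mul, c3_val hab hia.symm, c3_val hab hja.symm]
      exact Schur.Alt.cyc_mul_sq hab hia.symm hib.symm hja.symm hjb.symm hij
    obtain ⟨p, hp⟩ := exists_outside {a, b, i, j} (lt_of_le_of_lt Finset.card_le_four (by omega))
    obtain ⟨q, hq⟩ := exists_outside {a, b, i, j, p} (lt_of_le_of_lt Finset.card_le_five (by omega))
    obtain ⟨t, ht⟩ := exists_outside {a, b, i, j, p, q} (lt_of_le_of_lt Finset.card_le_six (by omega))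
    simp only [Finset.mem_insert, Finset.mem_singleton, not_or] at hp hq ht
    have hpq : p ≠ q := fun e => hq.2.2.2.2 e.symm
    have hpt' : p ≠ t := fun e => ht.2.2.2.2.1 e.symm
    have hqt : q ≠ t := fun e => ht.2.2.2.2.2 e.symm
    obtain ⟨v, hv⟩ : ∃ v, hs.op 3 (c3 p q t) v ≠ v := by
      by_contra hall
      push Not at hall
      exact hs.op_ne_one (c3_pow_three hpq hpt' hqt) (fun e => by
        have := congrArg (fun g : Alt r => g.1 p) e
        simp only [c3_apply₁ hpq hpt' hqt, OneMemClass.coe_one, Perm.one_apply] at this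
        exact hpq this.symm) (LinearMap.ext hall)
    have fi := hd p q t a b i (by simp [hab, hia.symm, hib.symm, hpq, hpt', hqt, hp, hq, ht]) v
    have fj := hd p q t a b j (by simp [hab, hja.symm, hjb.symm, hpq, hpt', hqt, hp, hq, ht]) v
    refine hs.ker_eq_one hker (sub_ne_zero.mpr hv) ?_
    simp only [op] at fi fj ⊢
    simp only [pow_two, map_mul, Module.End.mul_apply, fi, fj]
  have hcard := Schur.Alt.card_closure_le X (r - 2) (fun i hi => by
      obtain ⟨h1, h2⟩ := hpt i hi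
      exact hs.cover.lift_pow h3 (c3_pow_three hab h1.symm h2.symm))
    (fun i hi j hj hij => by
      obtain ⟨h1, h2⟩ := hpt i hi
      obtain ⟨h3, h4⟩ := hpt j hj
      refine hsq _ _ h1 h2 h3 h4 ?_
      simp only [pt, dif_pos (show i + 2 < r by omega), dif_pos (show j + 2 < r by omega)]
      simp [Fin.ext_iff, hij])
  rw [show r - 2 + 2 = r by omega] at hcard
  set R := Subgroup.closure (X '' Set.Iio (r - 2)) with hR
  have hmap : R.map π = ⊤ := by
    rw [eq_top_iff]
    intro g _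
    have key : ∀ g ∈ alternatingGroup (Fin r), g ∈ (R.map π).map (alternatingGroup (Fin r)).subtype := by
      intro g hg
      refine Schur.Alt.mem_of_cyc_mem hab (fun i h1 h2 => ?_) hg
      have hi : 2 ≤ i.1 := by
        rw [ha, Ne, Fin.ext_iff] at h1
        rw [hb, Ne, Fin.ext_iff] at h2
        simp only at h1 h2
        omega
      have hX : X (i.1 - 2) = hs.cover.lift 3 (c3 a b i) := by
        simp only [X, pt, dif_pos (show i.1 - 2 + 2 < r by omega)]
        congr
        omega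
      refine ⟨c3 a b i, ⟨X (i.1 - 2), Subgroup.subset_closure ⟨i.1 - 2, Set.mem_Iio.mpr (by omega), rfl⟩, ?_⟩,
        c3_val hab h1.symm⟩
      rw [hX, hs.cover.map_lift (c3_pow_three hab h1.symm h2.symm)]
    obtain ⟨g', hg', e⟩ := key g.1 g.2
    rwa [show g' = g from Subtype.ext e] at hg'
  have hRtop : R = ⊤ := by
    have hcom : commutator Γ ≤ R := by
      rw [commutator_def, Subgroup.commutator_le]
      intro x _ y _
      obtain ⟨x', hx', hxx⟩ : π x ∈ R.map π := hmap ▸ Subgroup.mem_top _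
      obtain ⟨y', hy', hyy⟩ : π y ∈ R.map π := hmap ▸ Subgroup.mem_top _
      rw [Cfsg.Lib.Schur.comm_congr π hs.cover.central hxx.symm hyy.symm, commutatorElement_def]
      exact R.mul_mem (R.mul_mem (R.mul_mem hx' hy') (R.inv_mem hx')) (R.inv_mem hy')
    exact eq_top_iff.mpr (hs.cover.perfect ▸ hcom)
  have hbij : Function.Bijective π := by
    haveI : Nontrivial (Fin r) := Fin.nontrivial_iff_two_le.mpr (by omega)
    have h1 : 2 * Nat.card (Alt r) = r.factorial := by
      rw [two_mul_nat_card_alternatingGroup, Nat.card_perm, Nat.card_eq_fintype_card, Fintype.card_fin]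
    have h2 : Nat.card Γ ≤ Nat.card (Alt r) := by
      have : Nat.card R = Nat.card Γ := by rw [hRtop]; exact Subgroup.card_top
      omega
    exact (Nat.bijective_iff_surjective_and_card π).mpr ⟨hs.cover.surj,
      le_antisymm h2 (Nat.card_le_card_of_surjective π hs.cover.surj)⟩
  let e : Γ ≃* Alt r := MulEquiv.ofBijective π hbij
  have hlift : ∀ σ : Alt r, σ ^ 3 = 1 → hs.cover.lift 3 σ = e.symm σ := fun σ hσ =>
    e.injective ((hs.cover.map_lift hσ).trans (e.apply_symm_apply σ).symm)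
  have hD : Disjointly (ρ.comp e.symm.toMonoidHom) := by
    refine ⟨fun W hW => hs.irred W fun g w hw => ?_, fun h0 => ?_, fun a b c d f g hnd v => ?_⟩
    · have := hW (e g) w hw
      simpa using this
    · have hne : c3 a b (pt 0) ≠ 1 := fun e => by
        obtain ⟨h1, h2⟩ := hpt 0 (by omega)
        have := congrArg (fun g : Alt r => g.1 a) e
        simp only [c3_apply₁ hab h1.symm h2.symm, OneMemClass.coe_one, Perm.one_apply] at this
        exact hab this.symm
      obtain ⟨h1, h2⟩ := hpt 0 (by omega)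
      refine hs.op_ne_one (c3_pow_three hab h1.symm h2.symm) hne ?_
      rw [op, hlift _ (c3_pow_three hab h1.symm h2.symm)]
      exact DFunLike.congr_fun h0 _
    · have h := hd a b c d f g hnd v
      simp only [List.nodup_cons, List.mem_cons, List.not_mem_nil, or_false, not_or, List.nodup_nil, and_true,
        not_false_eq_true] at hnd
      obtain ⟨⟨n1, n2, -⟩, ⟨n3, -⟩, -, ⟨n4, n5⟩, n6⟩ := hnd
      simp only [op, hlift _ (c3_pow_three n1 n2 n3), hlift _ (c3_pow_three n4 n5 n6)] at h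
      exact h
  exact hD.bound hr

/-- Roots of unity. -/
theorem exists_root (l : ℕ) (hl : 0 < l) (hlk : (l : k) ≠ 0) : ∃ ζ : k, IsPrimitiveRoot ζ l := by
  haveI : NeZero l := ⟨hl.ne'⟩
  haveI : NeZero (l : k) := ⟨hlk⟩
  exact HasEnoughRootsOfUnity.exists_primitiveRoot k l

theorem eigen_of_pow {F : Module.End k V} {μ : k} {v : V} {i i' : ℕ} (hF : F ^ l = 1) (hii : i * i' % l = 1)
    (h : (F ^ i) v = μ • v) : F v = μ ^ i' • v := by
  have hpow : ∀ n, ((F ^ i) ^ n) v = μ ^ n • v := by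
    intro n
    induction n with
    | zero => simp
    | succ n ih => rw [pow_succ', Module.End.mul_apply, ih, map_smul, h, smul_smul, ← pow_succ]
  rw [← hpow, ← pow_mul, ← Nat.mod_add_div (i * i') l, hii, pow_add, pow_one, pow_mul, hF, one_pow, mul_one]

/-- Conjugating an operator to a power moves its eigenspaces. -/
theorem dim_step (hs : Setup π ρ) (hl : Odd l) {σ g : Alt r} (hσ : σ ^ l = 1) {i i' : ℕ}
    (hg : g * σ * g⁻¹ = σ ^ i) (hii : i * i' % l = 1) (μ : k) :
    Module.finrank k ((hs.op l σ).eigenspace μ) ≤ Module.finrank k ((hs.op l σ).eigenspace (μ ^ i')) := by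
  obtain ⟨γ, rfl⟩ := hs.cover.surj g
  have h := hs.op_conj hl hσ γ
  rw [hg, ← hs.op_npow hl hσ] at h
  refine (eigen_dim_le (rho_injective γ) h μ).trans (Submodule.finrank_mono fun v hv => ?_)
  rw [Module.End.mem_eigenspace_iff] at hv ⊢
  exact eigen_of_pow (hs.op_pow hl hσ) hii hv

/-- All nontrivial eigenspaces have the same dimension. -/
theorem mul_dim_le (hs : Setup π ρ) (hl : Odd l) {ζ : k} (hζ : IsPrimitiveRoot ζ l) {σ g : Alt r}
    (hσ : σ ^ l = 1) {i i' : ℕ} (hg : g * σ * g⁻¹ = σ ^ i) (hii : i * i' % l = 1)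
    (hgen : ∀ a < l, ∀ b < l, a ≠ 0 → b ≠ 0 → ∃ e < l, a * i' ^ e % l = b) {a : ℕ} (ha : 0 < a) (ha' : a < l) :
    (l - 1) * Module.finrank k ((hs.op l σ).eigenspace (ζ ^ a)) ≤ Module.finrank k V := by
  classical
  have hstep : ∀ e, Module.finrank k ((hs.op l σ).eigenspace (ζ ^ a)) ≤
      Module.finrank k ((hs.op l σ).eigenspace (ζ ^ (a * i' ^ e))) := by
    intro e
    induction e with
    | zero => rw [pow_zero, mul_one]
    | succ e ih =>
      refine ih.trans ((hs.dim_step hl hσ hg hii _).trans_eq ?_)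
      rw [← pow_mul, pow_succ, mul_assoc]
  have hall : ∀ b ∈ Finset.Ico 1 l, Module.finrank k ((hs.op l σ).eigenspace (ζ ^ a)) ≤
      Module.finrank k ((hs.op l σ).eigenspace (ζ ^ b)) := by
    intro b hb
    rw [Finset.mem_Ico] at hb
    obtain ⟨e, -, he⟩ := hgen a ha' b hb.2 ha.ne' (by omega)
    refine (hstep e).trans_eq ?_
    rw [← Nat.mod_add_div (a * i' ^ e) l, he, pow_add, pow_mul, hζ.pow_eq_one, one_pow, mul_one]
  have hinj : Set.InjOn (fun b => ζ ^ b) ↑(Finset.Ico 1 l) := fun x hx y hy e =>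
    hζ.pow_inj (Finset.mem_Ico.mp hx).2 (Finset.mem_Ico.mp hy).2 e
  have h := sum_eigenspace_le (hs.op l σ) ((Finset.Ico 1 l).image fun b => ζ ^ b)
  rw [Finset.sum_image hinj] at h
  refine le_trans ?_ h
  have := Finset.card_nsmul_le_sum (Finset.Ico 1 l) _ _ hall
  simpa using this

/-- Induction inside an eigenspace. -/
theorem eigen_ge (hs : Setup π ρ) (hl : Odd l) {σ : Alt r} (hσ : σ ^ l = 1) (μ : k) {m : ℕ} (hm : 9 ≤ m)
    (ih : Main m) (ι : Fin m ↪ Fin r) (hfix : ∀ i, σ.1 (ι i) = ι i) {l' : ℕ} (hl' : Odd l') {τ : Alt r}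
    (hτ : τ ^ l' = 1) (hτι : ∀ x, x ∉ Set.range ι → τ.1 x = x) {v : V}
    (hv : v ∈ (hs.op l σ).eigenspace μ) (hne : hs.op l' τ v ≠ v) :
    m ≤ Module.finrank k ((hs.op l σ).eigenspace μ) + 2 := by
  classical
  haveI : Nontrivial (Fin m) := Fin.nontrivial_iff_two_le.mpr (by omega)
  set W := (hs.op l σ).eigenspace μ
  let D : Subgroup Γ := (viaHom ι).range.comap π
  let f : D →* Alt m :=
    (MonoidHom.ofInjective (viaHom_injective ι)).symm.toMonoidHom.comp
      ((π.comp D.subtype).codRestrict (viaHom ι).range fun g => g.2)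
  have hf : ∀ g : D, viaHom ι (f g) = π g.1 := fun g =>
    congrArg Subtype.val ((MonoidHom.ofInjective (viaHom_injective ι)).apply_symm_apply
      ⟨π g.1, g.2⟩)
  have hfsurj : Function.Surjective f := by
    intro s
    obtain ⟨g, hg⟩ := hs.cover.surj (viaHom ι s)
    exact ⟨⟨g, ⟨s, hg.symm⟩⟩, viaHom_injective ι ((hf _).trans hg)⟩
  have hinv : ∀ g : D, ∀ w ∈ W, ρ g.1 w ∈ W := fun g => eigenspace_invariant (hs.op_comm hl hσ (by
    obtain ⟨s, hg'⟩ := g.2
    rw [← hg']
    exact (viaHom_commute hfix s).symm)) μ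
  let φ : D →* Module.End k W :=
    { toFun := fun g => (ρ g.1).restrict (hinv g)
      map_one' := LinearMap.ext fun w => Subtype.ext (by simp)
      map_mul' := fun g g' => LinearMap.ext fun w => Subtype.ext (by simp) }
  obtain ⟨s, hs'⟩ := exists_viaHom_eq ι τ hτι
  haveI : (φ.ker.map f).Normal := Subgroup.Normal.map (MonoidHom.normal_ker φ) f hfsurj
  haveI := alternatingGroup.isSimpleGroup (α := Fin m) (by rw [Nat.card_eq_fintype_card, Fintype.card_fin]; omega)
  rcases Subgroup.Normal.eq_bot_or_eq_top (inferInstance : (φ.ker.map f).Normal) with h | h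
  · refine (ih D f hfsurj k W φ fun g hg => ?_).le_add_two
    exact (Subgroup.eq_bot_iff_forall _).mp h _ ⟨g, hg, rfl⟩
  · obtain ⟨g, hg, hfg⟩ : s ∈ φ.ker.map f := h ▸ Subgroup.mem_top s
    refine absurd ?_ hne
    have hπ : π g.1 = τ := by rw [← hf, hfg, hs']
    have hgv : ρ g.1 v = v := congrArg (fun e : Module.End k W => (e ⟨v, hv⟩ : V)) hg
    rw [op, ← hs.cover.pow_eq_lift hl' hπ hτ, map_pow]
    clear hne
    induction (l' + 1) with
    | zero => simp
    | succ j ihj => rw [pow_succ, Module.End.mul_apply, hgv, ihj]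

end Setup

end Cfsg.Lib.AltMinDim
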