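import Mathlib
import Cfsg.Agent.Known.AltMinDim.Setup

/-!
# Cycles of prime length five and seven
-/

set_option autoImplicit false
set_option linter.unusedSectionVars false
set_option linter.style.haveILetI false

namespace Cfsg.Lib.AltMinDim

open Equiv

/-- The data used about a cycle of length `l`. -/
structure CycData (l : ℕ) where
  s : Alt l
  u : Alt l
  x : Fin l
  y : Fin l
  z : Fin l
  τ : Perm (Fin l)
  i : ℕ
  i' : ℕ
  odd : Odd l
  s_pow : s ^ l = 1
  s_ne : s ≠ 1
  xy : x ≠ y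
  xz : x ≠ z
  yz : y ≠ z
  comm : u * s * u⁻¹ * s⁻¹ = c3 x y z
  τ_spec : ∀ a, (s ^ i).1 (τ a) = τ (s.1 a)
  ii : i * i' % l = 1
  gen : ∀ a < l, ∀ b < l, a ≠ 0 → b ≠ 0 → ∃ e < l, a * i' ^ e % l = b

/-- The five-cycle. -/
def rot5 : Alt 5 := ⟨finRotate 5, by rw [Perm.mem_alternatingGroup]; decide +kernel⟩

/-- The seven-cycle. -/
def rot7 : Alt 7 := ⟨finRotate 7, by rw [Perm.mem_alternatingGroup]; decide +kernel⟩

/-- Data for the five-cycle. -/
def cyc5 : CycData 5 where
  s := rot5
  u := c3 0 1 2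
  x := 0
  y := 1
  z := 3
  τ := ⟨fun a => 2 * a, fun a => 3 * a, by decide, by decide⟩
  i := 2
  i' := 3
  odd := ⟨2, rfl⟩
  s_pow := by decide +kernel
  s_ne := by decide +kernel
  xy := by decide
  xz := by decide
  yz := by decide
  comm := by decide +kernel
  τ_spec := by decide +kernel
  ii := rfl
  gen := by decide +kernel

/-- Data for the seven-cycle. -/
def cyc7 : CycData 7 where
  s := rot7
  u := c3 0 1 2
  x := 0
  y := 1
  z := 3
  τ := ⟨fun a => 3 * a, fun a => 5 * a, by decide, by decide⟩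
  i := 3
  i' := 5
  odd := ⟨3, rfl⟩
  s_pow := by decide +kernel
  s_ne := by decide +kernel
  xy := by decide
  xz := by decide
  yz := by decide
  comm := by decide +kernel
  τ_spec := by decide +kernel
  ii := rfl
  gen := by decide +kernel

/-- Embeddings through three given points avoiding a set. -/
theorem exists_emb {r l : ℕ} (s : Finset (Fin r)) {x y z : Fin l} (hxy : x ≠ y) (hxz : x ≠ z) (hyz : y ≠ z)
    {a b c : Fin r} (hab : a ≠ b) (hac : a ≠ c) (hbc : b ≠ c) (ha : a ∉ s) (hb : b ∉ s) (hc : c ∉ s)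
    (hcard : s.card + l ≤ r) : ∃ ι : Fin l ↪ Fin r, ι x = a ∧ ι y = b ∧ ι z = c ∧ ∀ i, ι i ∉ s := by
  classical
  have hl : ({x, y, z} : Finset (Fin l)).card ≤ l := by
    simpa using Finset.card_le_univ ({x, y, z} : Finset (Fin l))
  rw [card3 hxy hxz hyz] at hl
  obtain ⟨t, ht1, ht2, ht3⟩ := Finset.exists_subsuperset_card_eq (s := {a, b, c}) (t := sᶜ) (n := l)
    (by simp [Finset.insert_subset_iff, ha, hb, hc]) (by rw [card3 hab hac hbc]; exact hl)
    (by rw [Finset.card_compl, Fintype.card_fin]; omega)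
  let f : Fin l → Fin r := fun i => if i = x then a else if i = y then b else c
  have fx : f x = a := if_pos rfl
  have fy : f y = b := (if_neg hxy.symm).trans (if_pos rfl)
  have fz : f z = c := (if_neg hxz.symm).trans (if_neg hyz.symm)
  obtain ⟨e, he⟩ := Finset.exists_equiv_extend_of_card_eq (t := t) (by rw [Fintype.card_fin, ht3])
    (s := {x, y, z}) (f := f) (by
      rw [Finset.image_insert, Finset.image_insert, Finset.image_singleton, fx, fy, fz]; exact ht1)
    (by
      intro p hp q hq hpq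
      simp only [Finset.coe_insert, Finset.coe_singleton, Set.mem_insert_iff, Set.mem_singleton_iff] at hp hq
      rcases hp with rfl | rfl | rfl <;> rcases hq with rfl | rfl | rfl <;> first
        | rfl
        | (simp only [fx, fy, fz] at hpq; first
          | exact absurd hpq hab | exact absurd hpq.symm hab | exact absurd hpq hac
          | exact absurd hpq.symm hac | exact absurd hpq hbc | exact absurd hpq.symm hbc))
  refine ⟨⟨fun i => (e i).1, Subtype.val_injective.comp e.injective⟩, ?_, ?_, ?_,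
    fun i => Finset.mem_compl.mp (ht2 (e i).2)⟩
  · exact (he x (by simp)).trans fx
  · exact (he y (by simp)).trans fy
  · exact (he z (by simp)).trans fz

variable {r : ℕ} {Γ : Type} [Group Γ] [Finite Γ] {k : Type} [Field k] [IsAlgClosed k]
  {V : Type} [AddCommGroup V] [Module k V] [FiniteDimensional k V]
  {π : Γ →* Alt r} {ρ : Γ →* Module.End k V} {l : ℕ}

/-- The elements fixing the image of `F - 1`. -/
def fixOn (ρ : Γ →* Module.End k V) (F : Module.End k V) : Subgroup Γ where
  carrier := {g | ∀ v, ρ g (F v - v) = F v - v}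
  one_mem' := fun v => by rw [map_one, Module.End.one_apply]
  mul_mem' := fun {g h} hg hh v => by rw [map_mul, Module.End.mul_apply, hh, hg]
  inv_mem' := fun {g} hg v => by
    conv_lhs => rw [← hg v]
    exact Setup.rho_inv_cancel g _

/-- The elements moving vectors into the fixed space of `F`. -/
def into (ρ : Γ →* Module.End k V) (F : Module.End k V) : Subgroup Γ where
  carrier := {g | ∀ v, F (ρ g v - v) = ρ g v - v}
  one_mem' := fun v => by rw [map_one, Module.End.one_apply, sub_self, map_zero]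
  mul_mem' := fun {g h} hg hh v => by
    rw [map_mul, Module.End.mul_apply, show ρ g (ρ h v) - v = (ρ g (ρ h v) - ρ h v) + (ρ h v - v) by abel,
      map_add, hg, hh]
  inv_mem' := fun {g} hg v => by
    have h := hg (ρ g⁻¹ v)
    rw [← Module.End.mul_apply (ρ g), ← map_mul, mul_inv_cancel, map_one, Module.End.one_apply] at h
    rw [show ρ g⁻¹ v - v = -(v - ρ g⁻¹ v) by abel, map_neg, h]

namespace CycData

theorem via_pow (d : CycData l) (ι : Fin l ↪ Fin r) : viaHom ι d.s ^ l = 1 := by
  rw [← map_pow, d.s_pow, map_one]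

theorem via_ne (d : CycData l) (ι : Fin l ↪ Fin r) : viaHom ι d.s ≠ 1 := fun e =>
  d.s_ne (viaHom_injective ι (e.trans (map_one _).symm))

/-- A subgroup with all lifts of the cycles on a set contains the lift of a three-cycle. -/
theorem c3_mem (d : CycData l) (hs : Setup π ρ) (ι : Fin l ↪ Fin r) (S : Subgroup Γ)
    (h : ∀ τ : Perm (Fin l), hs.cover.lift l (viaHom (τ.toEmbedding.trans ι) d.s) ∈ S) :
    hs.cover.lift 3 (c3 (ι d.x) (ι d.y) (ι d.z)) ∈ S := by
  have h1 : hs.cover.lift l (viaHom ι d.s) ∈ S := by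
    have := h (Equiv.refl _)
    rwa [show (Equiv.refl (Fin l)).toEmbedding.trans ι = ι from Function.Embedding.ext fun _ => rfl] at this
  have h2 : hs.cover.lift l (viaHom ι (d.u * d.s * d.u⁻¹)) ∈ S := by
    rw [← viaHom_reindex ι d.u.1 (σ := d.s) (σ' := d.u * d.s * d.u⁻¹) fun a => ?_]
    · exact h d.u.1
    · show d.u.1 (d.s.1 (d.u.1⁻¹ (d.u.1 a))) = _
      rw [show d.u.1⁻¹ (d.u.1 a) = a from Equiv.symm_apply_apply _ _]
  have hu : viaHom ι (d.u * d.s * d.u⁻¹) ^ l = 1 := by
    rw [← map_pow, conj_pow, d.s_pow, mul_one, mul_inv_cancel, map_one]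
  have hπ : π (hs.cover.lift l (viaHom ι (d.u * d.s * d.u⁻¹)) * (hs.cover.lift l (viaHom ι d.s))⁻¹) =
      c3 (ι d.x) (ι d.y) (ι d.z) := by
    rw [map_mul, map_inv, hs.cover.map_lift hu, hs.cover.map_lift (d.via_pow ι), ← map_inv, ← map_mul, d.comm,
      c3_eq_viaHom ι d.xy d.xz d.yz]
  rw [← hs.cover.pow_eq_lift (⟨1, rfl⟩ : Odd 3) hπ (c3_pow_three (ι.injective.ne d.xy) (ι.injective.ne d.xz)
    (ι.injective.ne d.yz))]
  exact pow_mem (mul_mem h2 (inv_mem h1)) _

theorem mul_dim_le (d : CycData l) (hs : Setup π ρ) {ζ : k} (hζ : IsPrimitiveRoot ζ l) (hr : l + 2 ≤ r)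
    (ι : Fin l ↪ Fin r) {a : ℕ} (ha : 0 < a) (ha' : a < l) :
    (l - 1) * Module.finrank k ((hs.op l (viaHom ι d.s)).eigenspace (ζ ^ a)) ≤ Module.finrank k V := by
  obtain ⟨g, hg⟩ := exists_map ι (d.τ.toEmbedding.trans ι) ι.injective (d.τ.toEmbedding.trans ι).injective hr
  refine hs.mul_dim_le d.odd hζ (d.via_pow ι) (g := g) (i := d.i) (i' := d.i') ?_ d.ii d.gen ha ha'
  rw [viaHom_conj, viaHom_congr (ι' := d.τ.toEmbedding.trans ι) hg,
    viaHom_reindex ι d.τ (σ' := d.s ^ d.i) d.τ_spec, map_pow]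

end CycData

end Cfsg.Lib.AltMinDim
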