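import Mathlib
import Cfsg.Agent.Known.AltMinDim.Setup

/-!
# Minimal groups mapping onto an alternating group
-/

set_option autoImplicit false
set_option linter.unusedSectionVars false
set_option linter.style.haveILetI false

namespace Cfsg.Lib.AltMinDim

open scoped commutatorElement

variable {r : ℕ} {Γ : Type} [Group Γ] [Finite Γ]

/-- A minimal group mapping onto an alternating group. -/
structure Minimal (f : Γ →* Alt r) : Prop where
  five : 5 ≤ r
  surj : Function.Surjective f
  minimal : ∀ H : Subgroup Γ, H.map f = ⊤ → H = ⊤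

namespace Minimal

variable {f : Γ →* Alt r}

theorem simple (h : Minimal f) : IsSimpleGroup (Alt r) :=
  alternatingGroup.isSimpleGroup (α := Fin r) (by rw [Nat.card_eq_fintype_card, Fintype.card_fin]; exact h.five)

theorem le_ker (h : Minimal f) {H : Subgroup Γ} [hn : H.Normal] (hne : H ≠ ⊤) : H ≤ f.ker := by
  haveI := h.simple
  rcases Subgroup.Normal.eq_bot_or_eq_top (Subgroup.Normal.map hn f h.surj) with e | e
  · exact (Subgroup.map_eq_bot_iff H).mp e
  · exact absurd (h.minimal H e) hne

theorem two_card (h : Minimal f) : 2 * Nat.card (Alt r) = r.factorial := by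
  haveI : Nontrivial (Fin r) := Fin.nontrivial_iff_two_le.mpr (by have := h.five; omega)
  rw [two_mul_nat_card_alternatingGroup, Nat.card_perm, Nat.card_eq_fintype_card, Fintype.card_fin]

theorem nontriv (h : Minimal f) : f ≠ 1 := by
  intro e
  have h2 := h.two_card
  haveI : Subsingleton (Alt r) := ⟨fun a b => by
    obtain ⟨x, rfl⟩ := h.surj a
    obtain ⟨y, rfl⟩ := h.surj b
    rw [e]; rfl⟩
  rw [Nat.card_unique] at h2
  have h3 : Nat.factorial 5 ≤ r.factorial := Nat.factorial_le h.five
  rw [show Nat.factorial 5 = 120 from rfl] at h3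
  omega

theorem perfect (h : Minimal f) : commutator Γ = ⊤ := by
  haveI := h.simple
  refine h.minimal _ ?_
  rcases Subgroup.Normal.eq_bot_or_eq_top
      (Subgroup.Normal.map (inferInstance : (commutator Γ).Normal) f h.surj) with e | e
  · rw [commutator_def, Subgroup.map_commutator, Subgroup.map_top_of_surjective f h.surj,
      Subgroup.commutator_eq_bot_iff_le_centralizer] at e
    exfalso
    have h5 := h.five
    have c := e (Subgroup.mem_top (c3 (⟨0, by omega⟩ : Fin r) ⟨1, by omega⟩ ⟨2, by omega⟩))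
      (c3 (⟨0, by omega⟩ : Fin r) ⟨1, by omega⟩ ⟨3, by omega⟩) (Subgroup.mem_top _)
    have c' := congrArg (fun g : Alt r => g.1 ⟨0, by omega⟩) c
    simp only [Subgroup.coe_mul, Equiv.Perm.mul_apply] at c'
    rw [c3_apply₁ (by simp) (by simp) (by simp), c3_apply₁ (by simp) (by simp) (by simp),
      c3_apply₂ (by simp) (by simp), c3_apply₂ (by simp) (by simp)] at c'
    simp [Fin.ext_iff] at c'
  · exact e

theorem hom_eq_one (h : Minimal f) {M : Type*} [Monoid M] {θ : Γ →* M} (hc : ∀ a b, θ a * θ b = θ b * θ a) :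
    θ = 1 := by
  have hle : commutator Γ ≤ θ.ker := by
    rw [commutator_def, Subgroup.commutator_le]
    intro a _ b _
    rw [MonoidHom.mem_ker, commutatorElement_def, map_mul, map_mul, map_mul, hc a b, mul_assoc (θ b * θ a),
      ← map_mul θ a⁻¹, ← map_mul θ b a, ← map_mul, show b * a * (a⁻¹ * b⁻¹) = 1 by group, map_one]
  rw [h.perfect] at hle
  exact MonoidHom.ext fun g => hle (Subgroup.mem_top g)

theorem card_le (h : Minimal f) {M : Type*} [Monoid M] [Finite M] {θ : Γ →* M} (hθ : θ ≠ 1) :
    Nat.card (Alt r) ≤ Nat.card M := by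
  have hker : θ.ker ≤ f.ker := h.le_ker fun e =>
    hθ (MonoidHom.ext fun g => (e ▸ Subgroup.mem_top g : g ∈ θ.ker))
  refine Nat.card_le_card_of_injective (fun a => θ (Function.surjInv h.surj a)) fun a b e => ?_
  have h1 : θ ((Function.surjInv h.surj a)⁻¹ * Function.surjInv h.surj b) = 1 := by
    rw [map_mul, ← show θ (Function.surjInv h.surj a) = θ (Function.surjInv h.surj b) from e, ← map_mul,
      inv_mul_cancel, map_one]
  have h2 := hker (MonoidHom.mem_ker.mpr h1)
  rw [MonoidHom.mem_ker, map_mul, map_inv, Function.surjInv_eq h.surj, Function.surjInv_eq h.surj,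
    inv_mul_eq_one] at h2
  exact h2

theorem ker_nilpotent (h : Minimal f) : Group.IsNilpotent f.ker := by
  have hle : f.ker ≤ frattini Γ := by
    refine le_iInf₂ fun M hM => ?_
    by_contra hnot
    refine hM.1 (h.minimal M (eq_top_iff.mpr fun a _ => ?_))
    have hsup : M ⊔ f.ker = ⊤ := hM.2 _ (left_lt_sup.mpr hnot)
    obtain ⟨g, rfl⟩ := h.surj a
    have hg : g ∈ M ⊔ f.ker := hsup ▸ Subgroup.mem_top g
    obtain ⟨m, hm, n, hn, rfl⟩ := Subgroup.mem_sup_of_normal_right.mp hg
    exact ⟨m, hm, by rw [map_mul, MonoidHom.mem_ker.mp hn, mul_one]⟩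
  haveI : Group.IsNilpotent (frattini Γ) := frattini_nilpotent
  exact Group.nilpotent_of_mulEquiv (Subgroup.subgroupOfEquivOfLe hle)

theorem of_quotient (h : Minimal f) (N : Subgroup Γ) [N.Normal] (hN : N ≤ f.ker) :
    Minimal (QuotientGroup.lift N f hN) where
  five := h.five
  surj := fun a => (h.surj a).elim fun g hg => ⟨g, hg⟩
  minimal := by
    intro H hH
    have h1 := h.minimal (H.comap (QuotientGroup.mk' N)) (by
      rw [← hH]
      conv_rhs => rw [← Subgroup.map_comap_eq_self_of_surjective (QuotientGroup.mk'_surjective N) H,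
        Subgroup.map_map, QuotientGroup.lift_comp_mk']
      )
    rw [← Subgroup.map_comap_eq_self_of_surjective (QuotientGroup.mk'_surjective N) H, h1,
      Subgroup.map_top_of_surjective _ (QuotientGroup.mk'_surjective N)]

end Minimal

theorem exists_minimal_subgroup (hr : 5 ≤ r) (f : Γ →* Alt r) (hf : Function.Surjective f) :
    ∃ H : Subgroup Γ, Minimal (f.comp H.subtype) := by
  classical
  obtain ⟨H, -, hH⟩ := Finite.exists_le_minimal (p := fun H : Subgroup Γ => H.map f = ⊤) (a := ⊤)
    (Subgroup.map_top_of_surjective f hf)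
  refine ⟨H, hr, fun a => ?_, fun K hK => ?_⟩
  · obtain ⟨g, hg, rfl⟩ : a ∈ H.map f := hH.prop ▸ Subgroup.mem_top a
    exact ⟨⟨g, hg⟩, rfl⟩
  · have h1 : (K.map H.subtype).map f = ⊤ := by rw [Subgroup.map_map]; exact hK
    have h2 := hH.eq_of_le h1 (Subgroup.map_subtype_le K)
    refine eq_top_iff.mpr fun x _ => ?_
    obtain ⟨y, hy, e⟩ : x.1 ∈ K.map H.subtype := (SetLike.ext_iff.mp h2 x.1).mpr x.2
    rwa [← Subtype.ext e]

end Cfsg.Lib.AltMinDim
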