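import Mathlib
import Cfsg.Agent.Known.AltMinDim.Cycles

/-!
# Away from characteristic five: eigenspaces of five-cycles
-/

set_option autoImplicit false
set_option linter.unusedSectionVars false
set_option linter.style.haveILetI false

namespace Cfsg.Lib.AltMinDim

open Equiv

/-- A five-cycle on the first block. -/
def S10 : Alt 10 :=
  ⟨⟨![1, 2, 3, 4, 0, 5, 6, 7, 8, 9], ![4, 0, 1, 2, 3, 5, 6, 7, 8, 9], by decide, by decide⟩,
    by rw [Perm.mem_alternatingGroup]; decide +kernel⟩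

/-- A five-cycle on the second block. -/
def T10 : Alt 10 :=
  ⟨⟨![0, 1, 2, 3, 4, 6, 7, 8, 9, 5], ![0, 1, 2, 3, 4, 9, 5, 6, 7, 8], by decide, by decide⟩,
    by rw [Perm.mem_alternatingGroup]; decide +kernel⟩

/-- Squaring both cycles. -/
def A10 : Alt 10 :=
  ⟨⟨![0, 2, 4, 1, 3, 5, 7, 9, 6, 8], ![0, 3, 1, 4, 2, 5, 8, 6, 9, 7], by decide, by decide⟩,
    by rw [Perm.mem_alternatingGroup]; decide +kernel⟩

/-- Inverting the second cycle. -/
def N10 : Alt 10 :=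
  ⟨⟨![0, 1, 2, 3, 4, 5, 9, 8, 7, 6], ![0, 1, 2, 3, 4, 5, 9, 8, 7, 6], by decide, by decide⟩,
    by rw [Perm.mem_alternatingGroup]; decide +kernel⟩

/-- Exchanging the cycles up to squaring. -/
def P10 : Alt 10 :=
  ⟨⟨![5, 6, 7, 8, 9, 0, 2, 4, 1, 3], ![5, 8, 6, 9, 7, 0, 1, 2, 3, 4], by decide, by decide⟩,
    by rw [Perm.mem_alternatingGroup]; decide +kernel⟩

theorem rel10 : A10 * S10 * A10⁻¹ = S10 ^ 2 ∧ A10 * T10 * A10⁻¹ = T10 ^ 2 ∧ N10 * S10 * N10⁻¹ = S10 ^ 1 ∧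
    N10 * T10 * N10⁻¹ = T10 ^ 4 ∧ P10 * S10 * P10⁻¹ = T10 ^ 1 ∧ P10 * T10 * P10⁻¹ = S10 ^ 2 ∧
    S10 ^ 5 = 1 ∧ T10 ^ 5 = 1 := by decide +kernel

/-- The exponents of the weights form one orbit. -/
theorem weights_all {P : Fin 5 → Fin 5 → Prop} (hsc : ∀ a b, P a b → P (3 * a) (3 * b))
    (hneg : ∀ a b, P a b → P a (4 * b)) (hsw : ∀ a b, P a b → P (3 * b) a) {a b : Fin 5} (ha : a ≠ 0)
    (hb : b ≠ 0) (h : P a b) : ∀ c, c ≠ 0 → P a c := by
  have sc : ∀ a b, P a b → P (2 * a) (2 * b) ∧ P (4 * a) (4 * b) := by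
    intro a b h
    have h1 := hsc _ _ h
    have h2 := hsc _ _ h1
    have h3 := hsc _ _ h2
    have e2 : ∀ x : Fin 5, 3 * (3 * x) = 4 * x := by decide
    have e3 : ∀ x : Fin 5, 3 * (3 * (3 * x)) = 2 * x := by decide
    rw [e3, e3] at h3
    rw [e2, e2] at h2
    exact ⟨h3, h2⟩
  have scale : ∀ e : Fin 5, e ≠ 0 → ∀ a b, P a b → P (e * a) (e * b) := by
    intro e he a b h
    fin_cases e
    · exact absurd rfl he
    · simpa using h
    · exact (sc a b h).1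
    · exact hsc a b h
    · exact (sc a b h).2
  have inv : ∀ a : Fin 5, a ≠ 0 → ∃ i : Fin 5, i ≠ 0 ∧ i * a = 1 := by decide
  have mul0 : ∀ i b : Fin 5, i ≠ 0 → b ≠ 0 → i * b ≠ 0 := by decide
  have canc : ∀ a i c : Fin 5, i * a = 1 → a * (i * c) = c := by decide
  obtain ⟨i, hi0, hi⟩ := inv a ha
  have h1 := scale i hi0 a b h
  rw [hi] at h1
  have hib : i * b ≠ 0 := mul0 i b hi0 hb
  have w11 : P 1 1 := by
    generalize i * b = t at h1 hib
    fin_cases t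
    · exact absurd rfl hib
    · exact h1
    · exact scale 1 (by decide) _ _ (hsw 1 2 h1)
    · exact scale 1 (by decide) _ _ (hsw 1 2 (hneg 1 3 h1))
    · exact hneg 1 4 h1
  have w12 : P 1 2 := scale 2 (by decide) 3 1 (hsw 1 1 w11)
  have hall : ∀ t : Fin 5, t ≠ 0 → P 1 t := by
    intro t ht
    fin_cases t
    · exact absurd rfl ht
    · exact w11
    · exact w12
    · exact hneg 1 2 w12
    · exact hneg 1 1 w11
  intro c hc
  have e : a * (i * c) = c := canc a i c hi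
  have h2 := scale a ha 1 (i * c) (hall _ (mul0 i c hi0 hc))
  rwa [e, mul_one] at h2

variable {r : ℕ} {Γ : Type} [Group Γ] [Finite Γ] {k : Type} [Field k] [IsAlgClosed k]
  {V : Type} [AddCommGroup V] [Module k V] [FiniteDimensional k V]
  {π : Γ →* Alt r} {ρ : Γ →* Module.End k V}

namespace Setup

theorem four_le_of_weight (hs : Setup π ρ) (h5 : (5 : k) ≠ 0) (ι : Fin 10 ↪ Fin r) {ζ : k}
    (hζ : IsPrimitiveRoot ζ 5) {u : V} {j : ℕ} (hj : 0 < j) (hj' : j < 5)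
    (hu : hs.op 5 (viaHom ι S10) u = ζ ^ j • u) (hne : hs.op 5 (viaHom ι T10) u ≠ u) :
    4 ≤ Module.finrank k ((hs.op 5 (viaHom ι S10)).eigenspace (ζ ^ j)) := by
  classical
  obtain ⟨eAS, eAT, eNS, eNT, ePS, ePT, hS5, hT5⟩ := rel10
  have hodd : Odd 5 := ⟨2, rfl⟩
  have hk5 : ((5 : ℕ) : k) ≠ 0 := by exact_mod_cast h5
  have hS : viaHom ι S10 ^ 5 = 1 := by rw [← map_pow, hS5, map_one]
  have hT : viaHom ι T10 ^ 5 = 1 := by rw [← map_pow, hT5, map_one]
  set F := hs.op 5 (viaHom ι S10) with hF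
  set G := hs.op 5 (viaHom ι T10) with hG
  let P : Fin 5 → Fin 5 → Prop := fun a b => ∃ v, v ≠ 0 ∧ F v = ζ ^ a.1 • v ∧ G v = ζ ^ b.1 • v
  have hconj : ∀ (W X X' : Alt 10) (i : ℕ) (γ : Γ), π γ = viaHom ι W → X ^ 5 = 1 → X' ^ 5 = 1 →
      W * X * W⁻¹ = X' ^ i → ρ γ * hs.op 5 (viaHom ι X) = hs.op 5 (viaHom ι X') ^ i * ρ γ := by
    intro W X X' i γ hγ hX hX' e
    rw [hs.op_conj hodd (by rw [← map_pow, hX, map_one]) γ, hγ, ← map_inv, ← map_mul, ← map_mul, e, map_pow,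
      ← hs.op_npow hodd (by rw [← map_pow, hX', map_one])]
  have hval : ∀ (a : Fin 5) (i : ℕ) (c : Fin 5), i % 5 = c.1 → (ζ ^ a.1) ^ i = ζ ^ (c * a).1 := by
    intro a i c hc
    rw [← pow_mul, ← Nat.mod_add_div (a.1 * i) 5, pow_add, pow_mul ζ 5, hζ.pow_eq_one, one_pow, mul_one]
    congr 1
    rw [Fin.val_mul, Nat.mul_mod, hc, Nat.mod_eq_of_lt a.2, mul_comm]
  have step : ∀ (W : Alt 10) (a b : Fin 5), P a b → ∃ v, v ≠ 0 ∧
      (∀ (X X' : Alt 10) (i i' : ℕ) (c : Fin 5) (t : Fin 5), X ^ 5 = 1 → X' ^ 5 = 1 →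
        W * X * W⁻¹ = X' ^ i → i * i' % 5 = 1 → i' % 5 = c.1 →
        (X = S10 ∧ t = a ∨ X = T10 ∧ t = b) → hs.op 5 (viaHom ι X') v = ζ ^ (c * t).1 • v) := by
    intro W a b hP
    obtain ⟨v, hv0, hva, hvb⟩ := hP
    obtain ⟨γ, hγ⟩ := hs.cover.surj (viaHom ι W)
    refine ⟨ρ γ v, fun e => hv0 (rho_injective γ (e.trans (map_zero _).symm)), ?_⟩
    intro X X' i i' c t hX hX' e hii hc ht
    have e1 : (hs.op 5 (viaHom ι X') ^ i) (ρ γ v) = ζ ^ t.1 • ρ γ v := by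
      rw [← Module.End.mul_apply, ← hconj W X X' i γ hγ hX hX' e, Module.End.mul_apply]
      rcases ht with ⟨rfl, rfl⟩ | ⟨rfl, rfl⟩
      · rw [← hF, hva, map_smul]
      · rw [← hG, hvb, map_smul]
    rw [eigen_of_pow (hs.op_pow hodd (by rw [← map_pow, hX', map_one])) hii e1, hval t i' c hc]
  have hsc : ∀ a b, P a b → P (3 * a) (3 * b) := fun a b hP => by
    obtain ⟨v, hv, h⟩ := step A10 a b hP
    exact ⟨v, hv, h S10 S10 2 3 3 a hS5 hS5 eAS rfl rfl (Or.inl ⟨rfl, rfl⟩),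
      h T10 T10 2 3 3 b hT5 hT5 eAT rfl rfl (Or.inr ⟨rfl, rfl⟩)⟩
  have hneg : ∀ a b, P a b → P a (4 * b) := fun a b hP => by
    obtain ⟨v, hv, h⟩ := step N10 a b hP
    have h1 := h S10 S10 1 1 1 a hS5 hS5 eNS rfl rfl (Or.inl ⟨rfl, rfl⟩)
    rw [one_mul] at h1
    exact ⟨v, hv, h1, h T10 T10 4 4 4 b hT5 hT5 eNT rfl rfl (Or.inr ⟨rfl, rfl⟩)⟩
  have hsw : ∀ a b, P a b → P (3 * b) a := fun a b hP => by
    obtain ⟨v, hv, h⟩ := step P10 a b hP
    have h1 := h S10 T10 1 1 1 a hS5 hT5 ePS rfl rfl (Or.inl ⟨rfl, rfl⟩)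
    rw [one_mul] at h1
    exact ⟨v, hv, h T10 S10 2 3 3 b hT5 hS5 ePT rfl rfl (Or.inr ⟨rfl, rfl⟩), h1⟩
  have hcomm : Commute (viaHom ι T10) (viaHom ι S10) :=
    (show Commute T10 S10 by show T10 * S10 = S10 * T10; decide +kernel).map (viaHom ι)
  have hinv : ∀ w ∈ F.eigenspace (ζ ^ j), G w ∈ F.eigenspace (ζ ^ j) :=
    eigenspace_invariant (hs.op_comm_op hodd hS hT hcomm) _
  obtain ⟨b, hb0, hb5, v, hvW, hv0, hv⟩ := exists_eigen_ne_one (by norm_num) hk5 hζ (hs.op_pow hodd hT)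
    hinv (Module.End.mem_eigenspace_iff.mpr hu) hne
  have hP : P ⟨j, hj'⟩ ⟨b, hb5⟩ := ⟨v, hv0, Module.End.mem_eigenspace_iff.mp hvW, hv⟩
  have hall := weights_all hsc hneg hsw (fun e => hj.ne' (congrArg Fin.val e))
    (fun e => hb0.ne' (congrArg Fin.val e)) hP
  have h4 := card_le_finrank_of_eigen G (F.eigenspace (ζ ^ j)) (fun c : {c : Fin 5 // c ≠ 0} => ζ ^ c.1.1)
    (fun c => by
      obtain ⟨w, hw0, hwa, hwb⟩ := hall c.1 c.2
      exact ⟨w, Module.End.mem_eigenspace_iff.mpr hwa, hw0, hwb⟩)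
    (fun c c' e => Subtype.ext (Fin.ext (hζ.pow_inj c.1.2 c'.1.2 e)))
  simpa using h4

theorem route_five (hs : Setup π ρ) (ih : ∀ m, 9 ≤ m → m < r → Main m) (h5 : (5 : k) ≠ 0) (hr : 10 ≤ r) :
    Bound k r (Module.finrank k V) := by
  classical
  have hodd : Odd 5 := ⟨2, rfl⟩
  have hk5 : ((5 : ℕ) : k) ≠ 0 := by exact_mod_cast h5
  obtain ⟨ζ, hζ⟩ := exists_root (k := k) 5 (by norm_num) hk5
  by_cases hbig : ∃ (ι ι' : Fin 5 ↪ Fin r) (v : V), (∀ i j, ι i ≠ ι' j) ∧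
      hs.op 5 (viaHom ι' cyc5.s) (hs.op 5 (viaHom ι cyc5.s) v - v) ≠ hs.op 5 (viaHom ι cyc5.s) v - v
  · obtain ⟨ι, ι', v, hdis, hne⟩ := hbig
    obtain ⟨j, hj, hj', u, hu, hu'⟩ : ∃ j, 0 < j ∧ j < 5 ∧ ∃ u,
        hs.op 5 (viaHom ι cyc5.s) u = ζ ^ j • u ∧ hs.op 5 (viaHom ι' cyc5.s) u ≠ u := by
      by_contra hall
      push Not at hall
      exact hne (fix_sub (by norm_num) hk5 hζ (hs.op_pow hodd (cyc5.via_pow ι))
        (fun j hj hj' u hu => hall j hj hj' u hu) v)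
    have hmul := cyc5.mul_dim_le hs hζ (by omega) ι hj hj'
    by_cases h14 : 14 ≤ r
    · have hcard : (Finset.univ.map ι)ᶜ.card = r - 5 := by
        rw [Finset.card_compl, Fintype.card_fin, Finset.card_map, Finset.card_univ, Fintype.card_fin]
      let J : Fin (r - 5) ↪ Fin r := ((Finset.univ.map ι)ᶜ.orderEmbOfFin hcard).toEmbedding
      have hJ : Set.range J = ↑(Finset.univ.map ι)ᶜ := Finset.range_orderEmbOfFin _ hcard
      have hge := hs.eigen_ge hodd (cyc5.via_pow ι) (ζ ^ j) (m := r - 5) (by omega) (ih _ (by omega) (by omega)) J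
        (fun i => viaHom_apply_out ι _ (by
          have : J i ∈ Set.range J := ⟨i, rfl⟩
          rw [hJ] at this
          simpa using this)) hodd (cyc5.via_pow ι') (fun x hx => viaHom_apply_out ι' _ (by
          rintro ⟨i, rfl⟩
          rw [hJ] at hx
          simp at hx
          obtain ⟨i', hi'⟩ := hx
          exact hdis i' i hi')) (Module.End.mem_eigenspace_iff.mpr hu) hu'
      exact Or.inl (by omega)
    · let I : Fin 10 ↪ Fin r := ⟨(Fin.append ι ι' : Fin (5 + 5) → Fin r), by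
        intro a b e
        induction a using Fin.addCases (m := 5) (n := 5) with
        | left a =>
          induction b using Fin.addCases (m := 5) (n := 5) with
          | left b => rw [Fin.append_left, Fin.append_left] at e; rw [ι.injective e]
          | right b => rw [Fin.append_left, Fin.append_right] at e; exact absurd e (hdis a b)
        | right a =>
          induction b using Fin.addCases (m := 5) (n := 5) with
          | left b => rw [Fin.append_right, Fin.append_left] at e; exact absurd e.symm (hdis b a)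
          | right b => rw [Fin.append_right, Fin.append_right] at e; rw [ι'.injective e]⟩
      have hIl : ∀ a : Fin 5, I (Fin.castAdd 5 a) = ι a := fun a => Fin.append_left ι ι' a
      have hIr : ∀ a : Fin 5, I (Fin.natAdd 5 a) = ι' a := fun a => Fin.append_right ι ι' a
      have dS : ∀ a : Fin 5, S10.1 (Fin.castAdd 5 a) = Fin.castAdd 5 (cyc5.s.1 a) ∧
          S10.1 (Fin.natAdd 5 a) = Fin.natAdd 5 a ∧ T10.1 (Fin.castAdd 5 a) = Fin.castAdd 5 a ∧
          T10.1 (Fin.natAdd 5 a) = Fin.natAdd 5 (cyc5.s.1 a) := by decide +kernel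
      have eS : viaHom ι cyc5.s = viaHom I S10 := by
        refine viaHom_ext (fun i => ?_) fun x hx => viaHom_apply_out ι _ fun ⟨a, ha⟩ => hx ⟨_, (hIl a).trans ha⟩
        induction i using Fin.addCases (m := 5) (n := 5) with
        | left a => rw [hIl, (dS a).1, hIl, viaHom_apply]
        | right a =>
          rw [hIr, (dS a).2.1, hIr, viaHom_apply_out]
          rintro ⟨b, hb⟩; exact hdis b a hb
      have eT : viaHom ι' cyc5.s = viaHom I T10 := by
        refine viaHom_ext (fun i => ?_) fun x hx => viaHom_apply_out ι' _ fun ⟨a, ha⟩ => hx ⟨_, (hIr a).trans ha⟩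
        induction i using Fin.addCases (m := 5) (n := 5) with
        | left a =>
          rw [hIl, (dS a).2.2.1, hIl, viaHom_apply_out]
          rintro ⟨b, hb⟩; exact hdis a b hb.symm
        | right a => rw [hIr, (dS a).2.2.2, hIr, viaHom_apply]
      rw [eS] at hmul hu
      rw [eT] at hu'
      have h4 := hs.four_le_of_weight h5 I hζ hj hj' hu hu'
      exact Or.inl (by omega)
  push Not at hbig
  refine hs.bound_of_disj fun a b c e f g hnd v => ?_
  simp only [List.nodup_cons, List.mem_cons, List.not_mem_nil, or_false, not_or, List.nodup_nil, and_true,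
    not_false_eq_true] at hnd
  obtain ⟨⟨hab, hac, hae, haf, hag⟩, ⟨hbc, hbe, hbf, hbg⟩, ⟨hce, hcf, hcg⟩, ⟨hef, heg⟩, hfg⟩ := hnd
  obtain ⟨ι, hx, hy, hz, hι⟩ := exists_emb ({e, f, g} : Finset (Fin r)) cyc5.xy cyc5.xz cyc5.yz hab hac hbc
    (by simp [hae, haf, hag]) (by simp [hbe, hbf, hbg]) (by simp [hce, hcf, hcg])
    (by rw [card3 hef heg hfg]; omega)
  have key : ∀ τ : Perm (Fin 5), hs.cover.lift 5 (viaHom (τ.toEmbedding.trans ι) cyc5.s) ∈
      into ρ (hs.op 3 (c3 e f g)) := by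
    intro τ w
    set ι₁ := τ.toEmbedding.trans ι with hι₁
    have h1 : ∀ i, ι₁ i ∉ ({e, f, g} : Finset (Fin r)) := fun i => hι _
    obtain ⟨ι₂, hx', hy', hz', hι'⟩ := exists_emb (Finset.univ.map ι₁) cyc5.xy cyc5.xz cyc5.yz hef heg hfg
      (by intro h; obtain ⟨i, -, hi⟩ := Finset.mem_map.mp h; exact h1 i (hi ▸ by simp))
      (by intro h; obtain ⟨i, -, hi⟩ := Finset.mem_map.mp h; exact h1 i (hi ▸ by simp))
      (by intro h; obtain ⟨i, -, hi⟩ := Finset.mem_map.mp h; exact h1 i (hi ▸ by simp))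
      (by rw [Finset.card_map, Finset.card_univ, Fintype.card_fin]; omega)
    have := cyc5.c3_mem hs ι₂ (fixOn ρ (hs.op 5 (viaHom ι₁ cyc5.s))) fun τ' w' =>
      hbig ι₁ (τ'.toEmbedding.trans ι₂) w'
        (fun i i' h => hι' (τ' i') (Finset.mem_map.mpr ⟨i, Finset.mem_univ _, h⟩))
    rw [hx', hy', hz'] at this
    exact this w
  have := cyc5.c3_mem hs ι _ key
  rw [hx, hy, hz] at this
  exact this v

end Setup

end Cfsg.Lib.AltMinDim
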