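import Mathlib
import Cfsg.Agent.Known.AltMinDim.Cycles

/-!
# Long cycles with four spare points
-/

set_option autoImplicit false
set_option linter.unusedSectionVars false
set_option linter.style.haveILetI false

namespace Cfsg.Lib.AltMinDim

open Equiv
open scoped commutatorElement

/-- Two products of transpositions give a three-cycle. -/
theorem five_identity : ⁅c3 (0 : Fin 5) 1 3, c3 (0 : Fin 5) 1 4⁆ * ⁅c3 (1 : Fin 5) 2 3, c3 (1 : Fin 5) 2 4⁆ =
    c3 (0 : Fin 5) 1 2 := by
  rw [commutatorElement_def, commutatorElement_def]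
  decide +kernel

variable {r : ℕ} {Γ : Type} [Group Γ] [Finite Γ] {k : Type} [Field k] [IsAlgClosed k]
  {V : Type} [AddCommGroup V] [Module k V] [FiniteDimensional k V]
  {π : Γ →* Alt r} {ρ : Γ →* Module.End k V}

theorem exists_smul_of_finrank_le_one {W : Submodule k V} (h : Module.finrank k W ≤ 1) {f : Module.End k V}
    (hf : ∀ w ∈ W, f w ∈ W) {u : V} (hu : u ∈ W) (hu0 : u ≠ 0) : ∃ α : k, f u = α • u := by
  have heq := Submodule.eq_of_le_of_finrank_le ((Submodule.span_singleton_le_iff_mem _ _).mpr hu)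
    (by rw [finrank_span_singleton hu0]; exact h)
  have := hf u hu
  rw [← heq, Submodule.mem_span_singleton] at this
  obtain ⟨α, hα⟩ := this
  exact ⟨α, hα.symm⟩

namespace Setup

theorem route_four (hs : Setup π ρ) {l : ℕ} (d : CycData l) (hlk : (l : k) ≠ 0) (hr : l + 4 ≤ r)
    (hbnd : r ≤ 2 * (l - 1) + 1) : Bound k r (Module.finrank k V) := by
  classical
  have hl2 : 2 ≤ l := by have := d.x.2; have := Fin.val_ne_of_ne d.xy; have := d.y.2; omega
  obtain ⟨ζ, hζ⟩ := exists_root (k := k) l (by omega) hlk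
  have hn := hs.nine
  by_cases hbig : ∃ (ι : Fin l ↪ Fin r) (a : ℕ), 0 < a ∧ a < l ∧
      2 ≤ Module.finrank k ((hs.op l (viaHom ι d.s)).eigenspace (ζ ^ a))
  · obtain ⟨ι, a, ha, ha', h2⟩ := hbig
    have h := (Nat.mul_le_mul_left (l - 1) h2).trans (d.mul_dim_le hs hζ (by omega) ι ha ha')
    exact Or.inl (by omega)
  push Not at hbig
  -- commutators in a four-set
  let X : Fin r → Fin r → Fin r → Γ := fun p q t => hs.cover.lift 3 (c3 p q t)
  have key : ∀ (ι : Fin l ↪ Fin r) (p q t u : Fin r), [p, q, t, u].Nodup →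
      (∀ i, ι i ∉ ({p, q, t, u} : Finset (Fin r))) →
      hs.cover.lift l (viaHom ι d.s) ∈ into ρ (ρ ⁅X p q t, X p q u⁆) := by
    intro ι p q t u hnd hι v
    simp only [List.nodup_cons, List.mem_cons, List.not_mem_nil, or_false, not_or, List.nodup_nil, and_true,
      not_false_eq_true] at hnd
    obtain ⟨⟨hpq, hpt, hpu⟩, ⟨hqt, hqu⟩, htu⟩ := hnd
    simp only [Finset.mem_insert, Finset.mem_singleton, not_or] at hι
    refine fix_sub (by omega) hlk hζ (hs.op_pow d.odd (d.via_pow ι)) (fun j hj hj' w hw => ?_) v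
    by_cases hw0 : w = 0
    · rw [hw0, map_zero]
    have hW := Nat.le_of_lt_succ (hbig ι j hj hj')
    have hsc : ∀ o, (∀ i, ι i ≠ o) → p ≠ o → q ≠ o → ∃ α : k, ρ (X p q o) w = α • w := by
      intro o ho hpo hqo
      refine exists_smul_of_finrank_le_one hW (eigenspace_invariant
        (hs.op_comm d.odd (d.via_pow ι) ?_) _) (Module.End.mem_eigenspace_iff.mpr hw) hw0
      rw [hs.cover.map_lift (c3_pow_three hpq hpo hqo)]
      exact viaHom_commute (fun i => c3_apply_ne (hι i).1 (hι i).2.1 (ho i)) d.s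
    obtain ⟨α, hα⟩ := hsc t (fun i => (hι i).2.2.1) hpt hqt
    obtain ⟨β, hβ⟩ := hsc u (fun i => (hι i).2.2.2) hpu hqu
    have h0 : α * β ≠ 0 := by
      intro h0
      rcases mul_eq_zero.mp h0 with h0 | h0
      · exact hw0 (rho_injective (X p q t) (by rw [hα, h0, zero_smul, map_zero]))
      · exact hw0 (rho_injective (X p q u) (by rw [hβ, h0, zero_smul, map_zero]))
    have e : ρ (⁅X p q t, X p q u⁆ * (X p q u * X p q t)) w = ρ (X p q t * X p q u) w := by
      congr 2; rw [commutatorElement_def]; group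
    simp only [map_mul, Module.End.mul_apply, map_smul, hα, hβ, smul_smul] at e
    rw [mul_comm β α] at e
    exact smul_right_injective V h0 e
  refine hs.bound_of_disj fun a b c e f g hnd v => ?_
  simp only [List.nodup_cons, List.mem_cons, List.not_mem_nil, or_false, not_or, List.nodup_nil, and_true,
    not_false_eq_true] at hnd
  obtain ⟨⟨hab, hac, hae, haf, hag⟩, ⟨hbc, hbe, hbf, hbg⟩, ⟨hce, hcf, hcg⟩, ⟨hef, heg⟩, hfg⟩ := hnd
  obtain ⟨h, hh⟩ := exists_outside {a, b, c, e, f, g} (lt_of_le_of_lt Finset.card_le_six (by omega))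
  obtain ⟨o, ho⟩ := exists_outside (insert h ({a, b, c, e, f, g} : Finset (Fin r)))
    (lt_of_le_of_lt (Finset.card_insert_le _ _) (by
      have := Finset.card_le_six (a := a) (b := b) (c := c) (d := e) (e := f) (f := g); omega))
  simp only [Finset.mem_insert, Finset.mem_singleton, not_or] at hh ho
  obtain ⟨hha, hhb, hhc, hhe, hhf, hhg⟩ := hh
  obtain ⟨hoh, hoa, hob, hoc, hoe, hof, hog⟩ := ho
  have hC : ∀ p q t u : Fin r, [p, q, t, u].Nodup → a ∉ ({p, q, t, u} : Finset (Fin r)) →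
      b ∉ ({p, q, t, u} : Finset (Fin r)) → c ∉ ({p, q, t, u} : Finset (Fin r)) →
      ⁅X p q t, X p q u⁆ ∈ fixOn ρ (hs.op 3 (c3 a b c)) := by
    intro p q t u hnd ha hb hc
    obtain ⟨ι, hx, hy, hz, hι⟩ := exists_emb ({p, q, t, u} : Finset (Fin r)) d.xy d.xz d.yz hab hac hbc ha hb hc
      (le_trans (Nat.add_le_add_right Finset.card_le_four l) (by omega))
    have := d.c3_mem hs ι _ fun τ => key (τ.toEmbedding.trans ι) p q t u hnd fun i => hι _
    rw [hx, hy, hz] at this
    exact fun v => this v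
  have h1 := hC e f h o (by simp [hef, Ne.symm hhe, Ne.symm hoe, Ne.symm hhf, Ne.symm hof, Ne.symm hoh])
    (by simp [hae, haf, Ne.symm hha, Ne.symm hoa]) (by simp [hbe, hbf, Ne.symm hhb, Ne.symm hob])
    (by simp [hce, hcf, Ne.symm hhc, Ne.symm hoc])
  have h2 := hC f g h o (by simp [hfg, Ne.symm hhg, Ne.symm hog, Ne.symm hhf, Ne.symm hof, Ne.symm hoh])
    (by simp [hag, haf, Ne.symm hha, Ne.symm hoa]) (by simp [hbg, hbf, Ne.symm hhb, Ne.symm hob])
    (by simp [hcg, hcf, Ne.symm hhc, Ne.symm hoc])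
  have hnd5 : [e, f, g, h, o].Nodup := by
    simp [hef, heg, hfg, Ne.symm hhe, Ne.symm hoe, Ne.symm hhf, Ne.symm hof, Ne.symm hhg, Ne.symm hog, Ne.symm hoh]
  let ι : Fin 5 ↪ Fin r := ⟨fun i => [e, f, g, h, o].get i, hnd5.injective_get⟩
  have hπ : π (⁅X e f h, X e f o⁆ * ⁅X f g h, X f g o⁆) = c3 e f g := by
    have c := fun (p q t : Fin 5) (h1 : p ≠ q) (h2 : p ≠ t) (h3 : q ≠ t) =>
      (hs.cover.map_lift (c3_pow_three (ι.injective.ne h1) (ι.injective.ne h2) (ι.injective.ne h3))).trans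
        (c3_eq_viaHom ι h1 h2 h3)
    rw [map_mul, map_commutatorElement, map_commutatorElement,
      show π (X e f h) = viaHom ι (c3 0 1 3) from c 0 1 3 (by decide) (by decide) (by decide),
      show π (X e f o) = viaHom ι (c3 0 1 4) from c 0 1 4 (by decide) (by decide) (by decide),
      show π (X f g h) = viaHom ι (c3 1 2 3) from c 1 2 3 (by decide) (by decide) (by decide),
      show π (X f g o) = viaHom ι (c3 1 2 4) from c 1 2 4 (by decide) (by decide) (by decide),
      ← map_commutatorElement, ← map_commutatorElement, ← map_mul, five_identity,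
      ← c3_eq_viaHom ι (by decide) (by decide) (by decide)]
    rfl
  rw [op, ← hs.cover.pow_eq_lift (⟨1, rfl⟩ : Odd 3) hπ (c3_pow_three hef heg hfg)]
  exact pow_mem (mul_mem h1 h2) _ v

end Setup

end Cfsg.Lib.AltMinDim
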