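import Mathlib
import Cfsg.Agent.Known.AltMinDim.Setup

/-!
# Away from characteristic three: eigenspaces of three-cycles
-/

set_option autoImplicit false
set_option linter.unusedSectionVars false
set_option linter.style.haveILetI false

namespace Cfsg.Lib.AltMinDim

open Equiv

/-- Exchanging two triples, inverting one. -/
def flip6 : Perm (Fin 6) :=
  ⟨![3, 4, 5, 0, 2, 1], ![3, 5, 4, 0, 1, 2], by decide, by decide⟩

theorem flip6_mem : flip6 ∈ alternatingGroup (Fin 6) := by
  rw [Perm.mem_alternatingGroup]; decide +kernel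

/-- Vectors of a subspace with different joint eigenvalues. -/
theorem card_le_finrank_of_weights {k : Type*} [Field k] {V : Type*} [AddCommGroup V] [Module k V]
    [FiniteDimensional k V] {ι J : Type*} [Fintype ι] (f : J → Module.End k V) (W : Submodule k V)
    (χ : ι → J → k) (hex : ∀ i, ∃ v ∈ W, v ≠ 0 ∧ ∀ j, f j v = χ i j • v) (hχ : Function.Injective χ) :
    Fintype.card ι ≤ Module.finrank k W := by
  choose v hvW hv he using hex
  have h := linearIndependent_of_weights f v χ hv he hχ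
  exact (LinearIndependent.of_comp W.subtype (v := fun i => (⟨v i, hvW i⟩ : W)) h).fintype_card_le_finrank

variable {r : ℕ} {Γ : Type} [Group Γ] [Finite Γ] {k : Type} [Field k] [IsAlgClosed k]
  {V : Type} [AddCommGroup V] [Module k V] [FiniteDimensional k V]
  {π : Γ →* Alt r} {ρ : Γ →* Module.End k V}

namespace Setup

theorem c3_conj_inv (hr : 5 ≤ r) {a b c : Fin r} (hab : a ≠ b) (hac : a ≠ c) (hbc : b ≠ c) :
    ∃ g : Alt r, g * c3 a b c * g⁻¹ = c3 a b c ^ 2 := by
  obtain ⟨g, hg⟩ := exists_map ![a, b, c] ![a, c, b] (inj3 hab hac hbc) (inj3 hac hab hbc.symm) (by omega)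
  refine ⟨g, ?_⟩
  rw [c3_conj, show g.1 a = a from hg 0, show g.1 b = c from hg 1, show g.1 c = b from hg 2, pow_two,
    c3_mul_self hab hac hbc]

theorem route_three (hs : Setup π ρ) (ih : ∀ m, 9 ≤ m → m < r → Main m) (h3 : (3 : k) ≠ 0)
    (hr : 12 ≤ r ∨ r = 9 ∨ (r = 10 ∧ (r : k) = 0)) : Bound k r (Module.finrank k V) := by
  classical
  have hodd : Odd 3 := ⟨1, rfl⟩
  have hk3 : ((3 : ℕ) : k) ≠ 0 := by exact_mod_cast h3
  obtain ⟨ζ, hζ⟩ := exists_root (k := k) 3 (by norm_num) hk3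
  have hn := hs.nine
  by_cases hbig : ∃ a b c d e f : Fin r, [a, b, c, d, e, f].Nodup ∧ ∃ u,
      hs.op 3 (c3 a b c) u = ζ • u ∧ hs.op 3 (c3 d e f) u ≠ u
  · obtain ⟨a, b, c, d, e, f, hnd, u, hu, hne⟩ := hbig
    simp only [List.nodup_cons, List.mem_cons, List.not_mem_nil, or_false, not_or, List.nodup_nil, and_true,
      not_false_eq_true] at hnd
    obtain ⟨⟨hab, hac, had, hae, haf⟩, ⟨hbc, hbd, hbe, hbf⟩, ⟨hcd, hce, hcf⟩, ⟨hde, hdf⟩, hef⟩ := hnd
    have hT := c3_pow_three hab hac hbc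
    have hT' := c3_pow_three hde hdf hef
    set W := (hs.op 3 (c3 a b c)).eigenspace ζ with hW
    have huW : u ∈ W := Module.End.mem_eigenspace_iff.mpr hu
    obtain ⟨g0, hg0⟩ := c3_conj_inv (r := r) (by omega) hab hac hbc
    have hmul := hs.mul_dim_le hodd hζ hT (i := 2) (i' := 2) hg0 rfl (by decide) (a := 1) one_pos (by norm_num)
    rw [pow_one, ← hW] at hmul
    by_cases h12 : 12 ≤ r
    · -- induction
      have hcard : ({a, b, c} : Finset (Fin r))ᶜ.card = r - 3 := by
        rw [Finset.card_compl, Fintype.card_fin, card3 hab hac hbc]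
      let ι : Fin (r - 3) ↪ Fin r := (({a, b, c} : Finset (Fin r))ᶜ.orderEmbOfFin hcard).toEmbedding
      have hι : Set.range ι = ↑({a, b, c} : Finset (Fin r))ᶜ := Finset.range_orderEmbOfFin _ hcard
      have hin : ∀ i, ι i ≠ a ∧ ι i ≠ b ∧ ι i ≠ c := fun i => by
        have : ι i ∈ Set.range ι := ⟨i, rfl⟩
        rw [hι] at this
        simp at this; tauto
      have hge := hs.eigen_ge hodd hT ζ (m := r - 3) (by omega) (ih _ (by omega) (by omega)) ι
        (fun i => c3_apply_ne (hin i).1 (hin i).2.1 (hin i).2.2) hodd hT' (fun x hx => by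
          rw [hι] at hx
          simp only [Finset.coe_compl, Set.mem_compl_iff, Finset.mem_coe, Finset.mem_insert, Finset.mem_singleton,
            not_not] at hx
          rcases hx with rfl | rfl | rfl
          · exact c3_apply_ne had hae haf
          · exact c3_apply_ne hbd hbe hbf
          · exact c3_apply_ne hcd hce hcf) huW hne
      rw [← hW] at hge
      exact Or.inl (by omega)
    · -- four weights
      obtain ⟨g, hg⟩ := exists_outside {a, b, c, d, e, f} (lt_of_le_of_lt Finset.card_le_six (by omega))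
      simp only [Finset.mem_insert, Finset.mem_singleton, not_or] at hg
      obtain ⟨i, hi⟩ : ∃ i, i ∉ insert g ({a, b, c, d, e, f} : Finset (Fin r)) :=
        exists_outside _ (lt_of_le_of_lt (Finset.card_insert_le _ _) (by
          have := Finset.card_le_six (a := a) (b := b) (c := c) (d := d) (e := e) (f := f); omega))
      obtain ⟨h, hh⟩ : ∃ h, h ∉ insert i (insert g ({a, b, c, d, e, f} : Finset (Fin r))) :=
        exists_outside _ (lt_of_le_of_lt ((Finset.card_insert_le _ _).trans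
          (Nat.succ_le_succ (Finset.card_insert_le _ _))) (by
          have := Finset.card_le_six (a := a) (b := b) (c := c) (d := d) (e := e) (f := f); omega))
      simp only [Finset.mem_insert, Finset.mem_singleton, not_or] at hi hh
      have hgi : g ≠ i := Ne.symm hi.1
      have hgh : g ≠ h := Ne.symm hh.2.1
      have hih : i ≠ h := Ne.symm hh.1
      have hnd6 : [d, e, f, g, i, h].Nodup := by
        simp [hde, hdf, hef, hgi, hgh, hih, Ne.symm hg.2.2.2.1, Ne.symm hg.2.2.2.2.1, Ne.symm hg.2.2.2.2.2,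
          Ne.symm hi.2.2.2.2.1, Ne.symm hi.2.2.2.2.2.1, Ne.symm hi.2.2.2.2.2.2, Ne.symm hh.2.2.2.2.2.1,
          Ne.symm hh.2.2.2.2.2.2.1, Ne.symm hh.2.2.2.2.2.2.2]
      let ι : Fin 6 ↪ Fin r := ⟨fun x => [d, e, f, g, i, h].get x,
        hnd6.injective_get⟩
      obtain ⟨G, hG⟩ : ∃ G, G = viaHom ι ⟨flip6, flip6_mem⟩ := ⟨_, rfl⟩
      have Gd : G.1 d = g := hG ▸ viaHom_apply ι _ 0
      have Ge : G.1 e = i := hG ▸ viaHom_apply ι _ 1
      have Gf : G.1 f = h := hG ▸ viaHom_apply ι _ 2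
      have Gg : G.1 g = d := hG ▸ viaHom_apply ι _ 3
      have Gi : G.1 i = f := hG ▸ viaHom_apply ι _ 4
      have Gh : G.1 h = e := hG ▸ viaHom_apply ι _ 5
      have Gout : ∀ x, x ∉ [d, e, f, g, i, h] → G.1 x = x := fun x hx => hG ▸ viaHom_apply_out ι _
        (fun ⟨j, hj⟩ => hx (hj ▸ List.get_mem _ _))
      have hT3 := c3_pow_three hgi hgh hih
      obtain ⟨γ, hγ⟩ := hs.cover.surj G
      have k1 := hs.op_conj hodd hT' γ
      have k2 := hs.op_conj hodd hT3 γ
      have k0 := hs.op_conj hodd hT γ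
      rw [hγ, c3_conj, Gd, Ge, Gf] at k1
      rw [hγ, c3_conj, Gg, Gi, Gh, ← c3_inv hde hdf hef] at k2
      rw [hγ, c3_conj, Gout a (by simp [had, hae, haf, Ne.symm hg.1, Ne.symm hi.2.1, Ne.symm hh.2.2.1]),
        Gout b (by simp [hbd, hbe, hbf, Ne.symm hg.2.1, Ne.symm hi.2.2.1, Ne.symm hh.2.2.2.1]),
        Gout c (by simp [hcd, hce, hcf, Ne.symm hg.2.2.1, Ne.symm hi.2.2.2.1, Ne.symm hh.2.2.2.2.1])] at k0
      set T2 := hs.op 3 (c3 d e f) with hT2def
      set T3 := hs.op 3 (c3 g i h) with hT3def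
      have hinv2 : hs.op 3 (c3 d e f)⁻¹ = T2 ^ 2 := by
        rw [hT2def, hs.op_npow hodd hT']
        congr 1
        rw [inv_eq_iff_mul_eq_one, ← pow_succ']; exact hT'
      rw [hinv2] at k2
      let P : Fin 3 → Fin 3 → Prop := fun x y => ∃ v ∈ W, v ≠ 0 ∧ T2 v = ζ ^ x.1 • v ∧ T3 v = ζ ^ y.1 • v
      have step : ∀ x y, P x y → P (2 * y) x := by
        rintro x y ⟨v, hvW, hv0, h2, h3'⟩
        refine ⟨ρ γ v, ?_, fun e => hv0 (rho_injective γ (e.trans (map_zero _).symm)), ?_, ?_⟩
        · rw [hW, Module.End.mem_eigenspace_iff] at hvW ⊢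
          rw [← Module.End.mul_apply, ← k0, Module.End.mul_apply, hvW, map_smul]
        · have e1 : (T2 ^ 2) (ρ γ v) = ζ ^ y.1 • ρ γ v := by
            rw [← Module.End.mul_apply, ← k2, Module.End.mul_apply, h3', map_smul]
          rw [eigen_of_pow (hs.op_pow hodd hT') (i := 2) (i' := 2) rfl e1, ← pow_mul]
          congr 1
          rw [← Nat.mod_add_div (y.1 * 2) 3, pow_add, pow_mul, hζ.pow_eq_one, one_pow, mul_one, Fin.val_mul,
            mul_comm]
          rfl
        · rw [← Module.End.mul_apply, ← k1, Module.End.mul_apply, h2, map_smul]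
      have hcomm2 : ∀ w ∈ W, T2 w ∈ W := by
        refine eigenspace_invariant (hs.op_comm_op hodd hT hT' ?_) ζ
        have := c3_conj (c3 d e f) a b c
        rw [c3_apply_ne had hae haf, c3_apply_ne hbd hbe hbf, c3_apply_ne hcd hce hcf] at this
        exact mul_inv_eq_iff_eq_mul.mp this
      obtain ⟨j, hj0, hj3, v, hvW, hv0, hv⟩ := exists_eigen_ne_one (by norm_num) hk3 hζ (hs.op_pow hodd hT')
        hcomm2 huW hne
      have hcomm3 : ∀ w ∈ W ⊓ T2.eigenspace (ζ ^ j), T3 w ∈ W ⊓ T2.eigenspace (ζ ^ j) := by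
        intro w hw
        refine ⟨eigenspace_invariant (hs.op_comm_op hodd hT hT3 ?_) ζ w hw.1,
          eigenspace_invariant (hs.op_comm_op hodd hT' hT3 ?_) _ w hw.2⟩
        · have := c3_conj (c3 g i h) a b c
          rw [c3_apply_ne (Ne.symm hg.1) (Ne.symm hi.2.1) (Ne.symm hh.2.2.1),
            c3_apply_ne (Ne.symm hg.2.1) (Ne.symm hi.2.2.1) (Ne.symm hh.2.2.2.1),
            c3_apply_ne (Ne.symm hg.2.2.1) (Ne.symm hi.2.2.2.1) (Ne.symm hh.2.2.2.2.1)] at this
          exact mul_inv_eq_iff_eq_mul.mp this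
        · have := c3_conj (c3 g i h) d e f
          rw [c3_apply_ne (Ne.symm hg.2.2.2.1) (Ne.symm hi.2.2.2.2.1) (Ne.symm hh.2.2.2.2.2.1),
            c3_apply_ne (Ne.symm hg.2.2.2.2.1) (Ne.symm hi.2.2.2.2.2.1) (Ne.symm hh.2.2.2.2.2.2.1),
            c3_apply_ne (Ne.symm hg.2.2.2.2.2) (Ne.symm hi.2.2.2.2.2.2) (Ne.symm hh.2.2.2.2.2.2.2)] at this
          exact mul_inv_eq_iff_eq_mul.mp this
      obtain ⟨j', hj', w, hw, hw0, hwe⟩ := exists_eigen (by norm_num) hk3 hζ (hs.op_pow hodd hT3) hcomm3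
        (Submodule.mem_inf.mpr ⟨hvW, Module.End.mem_eigenspace_iff.mpr hv⟩) hv0
      have hP : P ⟨j, hj3⟩ ⟨j', hj'⟩ := ⟨w, hw.1, hw0, Module.End.mem_eigenspace_iff.mp hw.2, hwe⟩
      generalize hx : (⟨j, hj3⟩ : Fin 3) = x at hP
      generalize hy : (⟨j', hj'⟩ : Fin 3) = y at hP
      have hx0 : x ≠ 0 := fun e => by rw [← hx, Fin.ext_iff] at e; exact hj0.ne' e
      have hP2 := step _ _ hP
      have hP3 := step _ _ hP2
      have hP4 := step _ _ hP3
      let q : Fin 4 → Fin 3 × Fin 3 := ![(x, y), (2 * y, x), (2 * x, 2 * y), (2 * (2 * y), 2 * x)]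
      have hq : Function.Injective q := by
        revert hx0
        simp only [q]
        clear * -
        revert x y
        decide
      have hall : ∀ s, P (q s).1 (q s).2 := fun s => by fin_cases s <;> assumption
      have h4 := card_le_finrank_of_weights (J := Bool) (fun z => bif z then T2 else T3) W
        (fun (s : Fin 4) z => bif z then ζ ^ (q s).1.1 else ζ ^ (q s).2.1)
        (fun s => by
          obtain ⟨v, h1, h2, h3, h4⟩ := hall s
          exact ⟨v, h1, h2, fun z => by cases z <;> assumption⟩)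
        (fun s t est => hq (Prod.ext (Fin.ext (hζ.pow_inj (q s).1.2 (q t).1.2 (congrFun est true)))
          (Fin.ext (hζ.pow_inj (q s).2.2 (q t).2.2 (congrFun est false)))))
      rw [Fintype.card_fin] at h4
      rcases hr with h | h | ⟨h, h0⟩
      · omega
      · exact Or.inl (by omega)
      · exact Or.inr ⟨h0, by omega⟩
  · push Not at hbig
    refine hs.bound_of_disj fun a b c d e f hnd v => ?_
    have hnd' := hnd
    simp only [List.nodup_cons, List.mem_cons, List.not_mem_nil, or_false, not_or, List.nodup_nil, and_true,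
      not_false_eq_true] at hnd'
    obtain ⟨⟨hab, hac, had, hae, haf⟩, ⟨hbc, hbd, hbe, hbf⟩, ⟨hcd, hce, hcf⟩, ⟨hde, hdf⟩, hef⟩ := hnd'
    have hT := c3_pow_three hab hac hbc
    refine fix_sub (by norm_num) hk3 hζ (hs.op_pow hodd hT) (fun j hj hj' u hu => ?_) v
    rcases (show j = 1 ∨ j = 2 by omega) with rfl | rfl
    · exact hbig a b c d e f hnd u (by simpa using hu)
    · have hnd2 : [a, c, b, d, e, f].Nodup := by
        simp [hab, hac, Ne.symm hbc, had, hae, haf, hbd, hbe, hbf, hcd, hce, hcf, hde, hdf, hef]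
      refine hbig a c b d e f hnd2 u ?_
      rw [← c3_mul_self hab hac hbc, ← pow_two, ← hs.op_npow hodd hT, pow_two, Module.End.mul_apply, hu,
        map_smul, hu, smul_smul, ← pow_add, show 2 + 2 = 1 + 3 from rfl, pow_add, pow_one, hζ.pow_eq_one,
        mul_one]

end Setup

end Cfsg.Lib.AltMinDim
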