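import Mathlib
import Cfsg.Agent.Known.AltMinDim.Minimal
import Cfsg.Agent.Known.AltMinDim.RouteThree
import Cfsg.Agent.Known.AltMinDim.RouteFour
import Cfsg.Agent.Known.AltMinDim.RouteFive

/-!
# Irreducible representations of minimal groups mapping onto alternating groups
-/

set_option autoImplicit false
set_option linter.unusedSectionVars false
set_option linter.style.haveILetI false

namespace Cfsg.Lib.AltMinDim

open scoped commutatorElement

variable {r : ℕ} {Γ : Type} [Group Γ] [Finite Γ] {k : Type} [Field k] [IsAlgClosed k]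
  {V : Type} [AddCommGroup V] [Module k V] [FiniteDimensional k V]
  {f : Γ →* Alt r} {ρ : Γ →* Module.End k V}

/-- The bound for minimal groups in smaller dimensions. -/
def BelowDim (r n : ℕ) : Prop :=
  ∀ m < n, ∀ (Δ : Type) [Group Δ] [Finite Δ] (f : Δ →* Alt r), Minimal f →
    ∀ (k : Type) [Field k] [IsAlgClosed k] (W : Type) [AddCommGroup W] [Module k W] [FiniteDimensional k W]
      (φ : Δ →* Module.End k W), φ ≠ 1 → Module.finrank k W = m → Bound k r m

theorem Setup.bound {π : Γ →* Alt r} (hs : Setup π ρ) (ih : ∀ m, 9 ≤ m → m < r → Main m) :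
    Bound k r (Module.finrank k V) := by
  have h9 := hs.nine
  have h35 : (3 : k) = 0 → (5 : k) ≠ 0 := fun h e => by
    have : (1 : k) = 2 * 3 - 5 := by norm_num
    rw [h, e, mul_zero, sub_zero] at this
    exact one_ne_zero this
  have h57 : (5 : k) = 0 → (7 : k) ≠ 0 := fun h e => by
    have : (1 : k) = 3 * 5 - 2 * 7 := by norm_num
    rw [h, e, mul_zero, mul_zero, sub_zero] at this
    exact one_ne_zero this
  by_cases h3 : (3 : k) = 0
  · by_cases hr : r = 9
    · exact hs.route_four cyc5 (by exact_mod_cast h35 h3) (by omega) (by omega)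
    · exact hs.route_five ih (h35 h3) (by omega)
  · by_cases hr : 12 ≤ r ∨ r = 9
    · exact hs.route_three ih h3 (hr.imp_right Or.inl)
    · push Not at hr
      by_cases h5 : (5 : k) = 0
      · rcases (show r = 10 ∨ r = 11 by omega) with e | e
        · refine hs.route_three ih h3 (Or.inr (Or.inr ⟨e, ?_⟩))
          rw [e, show ((10 : ℕ) : k) = 2 * 5 by norm_num, h5, mul_zero]
        · exact hs.route_four cyc7 (by exact_mod_cast h57 h5) (by omega) (by omega)
      · exact hs.route_five ih h5 (by omega)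

/-- Faithful and irreducible. -/
structure Faithful (f : Γ →* Alt r) (ρ : Γ →* Module.End k V) : Prop where
  minimal : Minimal f
  inj : Function.Injective ρ
  irred : ∀ W : Submodule k V, (∀ g, ∀ w ∈ W, ρ g w ∈ W) → W = ⊥ ∨ W = ⊤
  nine : 9 ≤ r

namespace Faithful

theorem nontrivial (h : Faithful f ρ) : ∃ v : V, v ≠ 0 := by
  by_contra hall
  push Not at hall
  refine h.minimal.nontriv (MonoidHom.ext fun g => ?_)
  rw [h.inj (LinearMap.ext fun v => by rw [hall v, map_zero, map_zero] : ρ g = ρ 1), map_one, MonoidHom.one_apply]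

theorem scalar (h : Faithful f ρ) {g : Γ} (hg : g ∈ Subgroup.center Γ) : ∃ μ : k, ρ g = μ • 1 := by
  obtain ⟨v, hv⟩ := h.nontrivial
  haveI : Nontrivial V := ⟨⟨v, 0, hv⟩⟩
  obtain ⟨μ, hμ⟩ := Module.End.exists_eigenvalue (ρ g)
  rcases h.irred ((ρ g).eigenspace μ) (fun x => eigenspace_invariant
      ((show Commute x g from Subgroup.mem_center_iff.mp hg x).map ρ) μ) with e | e
  · exact absurd e hμ
  · exact ⟨μ, LinearMap.ext fun w => Module.End.mem_eigenspace_iff.mp (e ▸ Submodule.mem_top)⟩

/-- A noncentral abelian normal subgroup gives many weights. -/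
theorem bound_of_abelian (h : Faithful f ρ) (A : Subgroup Γ) [A.Normal]
    (hab : ∀ a ∈ A, ∀ b ∈ A, a * b = b * a) (hnc : ¬ A ≤ Subgroup.center Γ) :
    r ≤ Module.finrank k V := by
  classical
  let U : (A → k) → Submodule k V := fun χ => ⨅ a : A, (ρ a.1).eigenspace (χ a)
  have hU : ∀ χ v, v ∈ U χ ↔ ∀ a : A, ρ a.1 v = χ a • v := fun χ v => by
    simp only [U, Submodule.mem_iInf, Module.End.mem_eigenspace_iff]
  let X : Set (A → k) := {χ | U χ ≠ ⊥}
  have hXli : ∀ s : Finset (A → k), ↑s ⊆ X → s.card ≤ Module.finrank k V := by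
    intro s hs
    rw [← Fintype.card_coe]
    refine card_weights_le (fun a : A => ρ a.1) (fun χ : s => χ.1) (fun χ => ?_) Subtype.val_injective
    obtain ⟨v, hv, hv0⟩ := Submodule.exists_mem_ne_zero_of_ne_bot (hs χ.2)
    exact ⟨v, hv0, (hU _ v).mp hv⟩
  have hfin : X.Finite := by
    by_contra hinf
    obtain ⟨s, hs, hcard⟩ := Set.Infinite.exists_subset_card_eq hinf (Module.finrank k V + 1)
    have := hXli s hs
    omega
  -- a common eigenvector
  obtain ⟨v, hv⟩ := h.nontrivial
  have hweight : ∀ (s : Finset A), ∃ (W : Submodule k V), W ≠ ⊥ ∧ (∀ a : A, ∀ w ∈ W, ρ a.1 w ∈ W) ∧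
      ∀ a ∈ s, ∃ μ : k, ∀ w ∈ W, ρ a.1 w = μ • w := by
    intro s
    induction s using Finset.induction_on with
    | empty => exact ⟨⊤, fun e => hv ((Submodule.eq_bot_iff _).mp e v Submodule.mem_top),
        fun _ _ _ => Submodule.mem_top, fun a ha => absurd ha (Finset.notMem_empty a)⟩
    | @insert a s _ ih =>
      obtain ⟨W, hW0, hinv, hW⟩ := ih
      haveI : Nontrivial W := Submodule.nontrivial_iff_ne_bot.mpr hW0
      obtain ⟨μ, hμ⟩ := Module.End.exists_eigenvalue ((ρ a.1).restrict (hinv a))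
      obtain ⟨w, hw, hw0⟩ := Submodule.exists_mem_ne_zero_of_ne_bot hμ
      rw [Module.End.mem_eigenspace_iff] at hw
      refine ⟨W ⊓ (ρ a.1).eigenspace μ, fun e => hw0 (Subtype.ext ((Submodule.eq_bot_iff _).mp e w.1
        ⟨w.2, Module.End.mem_eigenspace_iff.mpr (congrArg Subtype.val hw)⟩)), fun b x hx => ⟨hinv b x hx.1,
        eigenspace_invariant ((show Commute b.1 a.1 from hab _ b.2 _ a.2).map ρ) μ x hx.2⟩, fun b hb => ?_⟩
      rcases Finset.mem_insert.mp hb with rfl | hb
      · exact ⟨μ, fun x hx => Module.End.mem_eigenspace_iff.mp hx.2⟩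
      · exact (hW b hb).imp fun ν hν x hx => hν x hx.1
  haveI := Fintype.ofFinite A
  obtain ⟨W, hW0, -, hW⟩ := hweight Finset.univ
  choose χ₀ hχ₀ using fun a : A => hW a (Finset.mem_univ a)
  have hχX : χ₀ ∈ X := fun e => hW0 (le_bot_iff.mp (e ▸ fun w hw => (hU χ₀ w).mpr fun a => hχ₀ a w hw))
  -- the action
  let act : Γ → (A → k) → (A → k) := fun g χ a =>
    χ ⟨g⁻¹ * a.1 * g, by simpa using (inferInstance : A.Normal).conj_mem a.1 a.2 g⁻¹⟩
  have hact : ∀ g χ v, v ∈ U χ → ρ g v ∈ U (act g χ) := by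
    intro g χ v hv
    rw [hU] at hv ⊢
    intro a
    have := hv ⟨g⁻¹ * a.1 * g, by simpa using (inferInstance : A.Normal).conj_mem a.1 a.2 g⁻¹⟩
    calc ρ a.1 (ρ g v) = ρ g (ρ (g⁻¹ * a.1 * g) v) := by
          simp only [← Module.End.mul_apply, ← map_mul]; congr 2; group
      _ = _ := by rw [this, map_smul]
  haveI : Fintype X := hfin.fintype
  have hmem : ∀ g, ∀ χ ∈ X, act g χ ∈ X := by
    intro g χ hχ e
    obtain ⟨v, hv, hv0⟩ := Submodule.exists_mem_ne_zero_of_ne_bot hχ
    exact hv0 (Setup.rho_injective g (((Submodule.eq_bot_iff _).mp e _ (hact g χ v hv)).trans (map_zero _).symm))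
  let θ : Γ →* Function.End X :=
    { toFun := fun g x => ⟨act g x.1, hmem g x.1 x.2⟩
      map_one' := by
        refine funext fun x => Subtype.ext (funext fun a => ?_)
        show x.1 _ = x.1 a
        exact congrArg x.1 (Subtype.ext (show (1 : Γ)⁻¹ * a.1 * 1 = a.1 by group))
      map_mul' := fun g g' => by
        refine funext fun x => Subtype.ext (funext fun a => ?_)
        show x.1 _ = x.1 _
        exact congrArg x.1 (Subtype.ext (show (g * g')⁻¹ * a.1 * (g * g') = g'⁻¹ * (g⁻¹ * a.1 * g) * g' by group)) }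
  have hθne : θ.toHomUnits ≠ 1 := by
    intro e
    have hfix : ∀ g, act g χ₀ = χ₀ := fun g => by
      have h1 : θ g = 1 := congrArg Units.val (DFunLike.congr_fun e g)
      exact congrArg (fun z : Function.End X => ((z ⟨χ₀, hχX⟩ : X) : A → k)) h1
    rcases h.irred (U χ₀) (fun g w hw => by have := hact g χ₀ w hw; rwa [hfix g] at this) with e' | e'
    · exact hχX e'
    · refine hnc fun a ha => Subgroup.mem_center_iff.mpr fun g => h.inj ?_
      have hs : ∀ w, ρ a w = χ₀ ⟨a, ha⟩ • w := fun w =>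
        (hU χ₀ w).mp (e' ▸ Submodule.mem_top) ⟨a, ha⟩
      refine LinearMap.ext fun w => ?_
      rw [map_mul, map_mul, Module.End.mul_apply, Module.End.mul_apply, hs, hs, map_smul]
  let e : (Function.End X)ˣ →* Equiv.Perm X :=
    { toFun := fun u => ⟨u.1, u.2, fun x => congrFun u.inv_mul x, fun x => congrFun u.mul_inv x⟩
      map_one' := Equiv.ext fun _ => rfl
      map_mul' := fun _ _ => Equiv.ext fun _ => rfl }
  have h1 := h.minimal.card_le (θ := e.comp θ.toHomUnits) fun h0 => hθne (MonoidHom.ext fun g => Units.ext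
    (funext fun x => congrArg (fun p : Equiv.Perm X => p x) (DFunLike.congr_fun h0 g)))
  rw [Nat.card_perm, Nat.card_eq_fintype_card (α := X)] at h1
  have hXn : Fintype.card X ≤ Module.finrank k V := by
    have := hXli hfin.toFinset (by simp)
    rwa [Set.Finite.card_toFinset] at this
  by_contra hlt
  have h2 := h.minimal.two_card
  have h3 : (Fintype.card X).factorial ≤ (r - 1).factorial := Nat.factorial_le (by omega)
  have h4 : r * (r - 1).factorial = r.factorial := Nat.mul_factorial_pred (by have := h.nine; omega)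
  have h5 : 3 * (r - 1).factorial ≤ r * (r - 1).factorial :=
    Nat.mul_le_mul_right _ (by have := h.nine; omega)
  have := Nat.factorial_pos (r - 1)
  omega

end Faithful

end Cfsg.Lib.AltMinDim
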