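import Mathlib
import Cfsg.Agent.Known.AltMinDim.Kernel

/-!
# Kernels which are not central
-/

set_option autoImplicit false
set_option linter.unusedSectionVars false
set_option linter.style.haveILetI false

namespace Cfsg.Lib.AltMinDim

open scoped commutatorElement

variable {r : ℕ} {Γ : Type} [Group Γ] [Finite Γ] {k : Type} [Field k] [IsAlgClosed k]
  {V : Type} [AddCommGroup V] [Module k V] [FiniteDimensional k V]
  {f : Γ →* Alt r} {ρ : Γ →* Module.End k V}

theorem two_pow_gt (n : ℕ) (hn : 5 ≤ n) : n * n < 2 ^ n := by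
  induction n, hn using Nat.le_induction with
  | base => norm_num
  | succ n hn ih =>
    rw [pow_succ]
    nlinarith

/-- An action on a finite elementary abelian group in coordinates. -/
theorem exists_linear_rep {G A : Type} [Group G] [CommGroup A] [Finite A] (q : ℕ) [Fact q.Prime]
    (hq : ∀ a : A, a ^ q = 1) (act : G →* MulAut A) (hact : act ≠ 1) :
    ∃ d, Nat.card A = q ^ d ∧ ∃ Θ : G →* Matrix (Fin d) (Fin d) (ZMod q), Θ ≠ 1 := by
  obtain ⟨inst⟩ : Nonempty (Module (ZMod q) (Additive A)) := ⟨AddCommGroup.zmodModule (n := q) fun a => by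
    obtain ⟨b, rfl⟩ := Additive.ofMul.surjective a
    rw [← ofMul_pow, hq, ofMul_one]⟩
  haveI : Finite (Additive A) := inferInstanceAs (Finite A)
  haveI : Module.Finite (ZMod q) (Additive A) := Module.Finite.of_finite
  refine ⟨Module.finrank (ZMod q) (Additive A), ?_, ?_⟩
  · rw [show Nat.card A = Nat.card (Additive A) from rfl,
      Module.natCard_eq_pow_finrank (K := ZMod q) (V := Additive A), Nat.card_zmod]
  let θ : G →* Module.End (ZMod q) (Additive A) :=
    { toFun := fun g => (MonoidHom.toAdditive (act g).toMonoidHom).toZModLinearMap q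
      map_one' := LinearMap.ext fun a => by
        show Additive.ofMul (act 1 a.toMul) = a
        rw [map_one]; rfl
      map_mul' := fun g g' => LinearMap.ext fun a => by
        show Additive.ofMul (act (g * g') a.toMul) = Additive.ofMul (act g (act g' a.toMul))
        rw [map_mul]; rfl }
  have hθ : θ ≠ 1 := fun e => hact (MonoidHom.ext fun g => MulEquiv.ext fun a =>
    (LinearMap.congr_fun (DFunLike.congr_fun e g) (Additive.ofMul a) : Additive.ofMul (act g a) = Additive.ofMul a))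
  let b := Module.finBasis (ZMod q) (Additive A)
  refine ⟨(LinearMap.toMatrixAlgEquiv b).toMonoidHom.comp θ, fun e => hθ (MonoidHom.ext fun g => ?_)⟩
  exact (LinearMap.toMatrixAlgEquiv b).injective ((DFunLike.congr_fun e g).trans (map_one _).symm)

theorem Faithful.bound_of_not_central (h : Faithful f ρ) (hb : BelowDim r (Module.finrank k V))
    (hab : ∀ A : Subgroup Γ, A.Normal → (∀ a ∈ A, ∀ b ∈ A, a * b = b * a) → A ≤ Subgroup.center Γ)
    (hnc : ¬ f.ker ≤ Subgroup.center Γ) : r ≤ Module.finrank k V + 1 := by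
  classical
  obtain ⟨C, hC⟩ : ∃ C : Subgroup Γ, C = Subgroup.center Γ := ⟨_, rfl⟩
  haveI : C.Normal := hC ▸ inferInstance
  have hcent : ∀ {x : Γ}, x ∈ C → ∀ g, g * x = x * g := fun hx g => Subgroup.mem_center_iff.mp (hC ▸ hx) g
  set N := f.ker with hN
  haveI hNn : N.Normal := MonoidHom.normal_ker f
  -- an element of the second centre
  haveI := h.minimal.ker_nilpotent
  obtain ⟨x₀, hx₀N, hx₀, hx₀c⟩ : ∃ x ∈ N, x ∉ C ∧ ∀ y ∈ N, ⁅x, y⁆ ∈ C := by
    obtain ⟨c, hcl⟩ := (Subgroup.isNilpotent_iff_lowerCentralSeries N).mp inferInstance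
    have hex : ∃ i, N.lowerCentralSeries i ≤ C := ⟨c, by rw [hcl]; exact bot_le⟩
    have h0 : Nat.find hex ≠ 0 := by
      intro e
      have := Nat.find_spec hex
      rw [e, Subgroup.lowerCentralSeries_zero, hC] at this
      exact hnc this
    obtain ⟨i, hi⟩ := Nat.exists_eq_succ_of_ne_zero h0
    have hnot := Nat.find_min hex (show i < Nat.find hex by omega)
    obtain ⟨x, hx, hxC⟩ := SetLike.not_le_iff_exists.mp hnot
    refine ⟨x, N.lowerCentralSeries_antitone (Nat.zero_le i) hx, hxC, fun y hy => ?_⟩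
    have hspec := Nat.find_spec hex
    rw [hi] at hspec
    exact hspec (Subgroup.commutator_mem_commutator hx hy)
  let mk := QuotientGroup.mk' C
  have hmk : ∀ {x : Γ}, mk x = 1 ↔ x ∈ C := fun {x} => (QuotientGroup.eq_one_iff x)
  have hcomm : ∀ {x y : Γ}, ⁅x, y⁆ ∈ C ↔ mk x * mk y = mk y * mk x := fun {x y} => by
    rw [← hmk, map_commutatorElement, commutatorElement_eq_one_iff_mul_comm]
  -- the second centre inside the kernel
  let E : Subgroup Γ :=
    { carrier := {x | x ∈ N ∧ ∀ y ∈ N, mk x * mk y = mk y * mk x}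
      one_mem' := ⟨one_mem _, fun y _ => by rw [map_one, one_mul, mul_one]⟩
      mul_mem' := fun {a b} ha hb' => ⟨mul_mem ha.1 hb'.1, fun y hy => by
        rw [map_mul, mul_assoc, hb'.2 y hy, ← mul_assoc, ha.2 y hy, mul_assoc]⟩
      inv_mem' := fun {a} ha => ⟨inv_mem ha.1, fun y hy => by
        rw [map_inv]
        exact ((show Commute (mk a) (mk y) from ha.2 y hy).inv_left).eq⟩ }
  have hEconj : ∀ (g : Γ), ∀ a ∈ E, g * a * g⁻¹ ∈ E := by
    intro g a ha
    refine ⟨hNn.conj_mem a ha.1 g, fun y hy => ?_⟩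
    have hy' := ha.2 (g⁻¹ * y * g) (by simpa using hNn.conj_mem y hy g⁻¹)
    simp only [map_mul, map_inv] at hy' ⊢
    calc mk g * mk a * (mk g)⁻¹ * mk y = mk g * (mk a * ((mk g)⁻¹ * mk y * mk g)) * (mk g)⁻¹ := by group
      _ = mk g * ((mk g)⁻¹ * mk y * mk g * mk a) * (mk g)⁻¹ := by rw [hy']
      _ = _ := by group
  have hx₀E : x₀ ∈ E := ⟨hx₀N, fun y hy => hcomm.mp (hx₀c y hy)⟩
  -- an element of prime order modulo the centre
  obtain ⟨q, hq, x₁, hx₁E, hx₁C, hx₁q⟩ : ∃ q, q.Prime ∧ ∃ x ∈ E, x ∉ C ∧ x ^ q ∈ C := by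
    have hne : orderOf (mk x₀) ≠ 1 := fun e => hx₀ (hmk.mp (orderOf_eq_one_iff.mp e))
    obtain ⟨q, hq, hdvd⟩ := Nat.exists_prime_and_dvd hne
    obtain ⟨o, ho⟩ := hdvd
    refine ⟨q, hq, x₀ ^ o, pow_mem hx₀E o, fun e => ?_, ?_⟩
    · have h1 := hmk.mpr e
      rw [map_pow] at h1
      have h2 := orderOf_dvd_of_pow_eq_one h1
      have hpos := orderOf_pos (mk x₀)
      rw [ho] at h2 hpos
      have := Nat.le_of_dvd (Nat.pos_of_mul_pos_left hpos) h2
      have := hq.two_le
      nlinarith [Nat.pos_of_mul_pos_left hpos]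
    · rw [← hmk, map_pow, map_pow, ← pow_mul, mul_comm, ← ho, pow_orderOf_eq_one]
  haveI := Fact.mk hq
  let U : Subgroup Γ :=
    { carrier := {x | x ∈ E ∧ x ^ q ∈ C}
      one_mem' := ⟨one_mem _, by rw [one_pow]; exact one_mem _⟩
      mul_mem' := fun {a b} ha hb' => ⟨mul_mem ha.1 hb'.1, by
        rw [← hmk, map_pow, map_mul, (show Commute (mk a) (mk b) from ha.1.2 b hb'.1.1).mul_pow, ← map_pow,
          ← map_pow, hmk.mpr ha.2, hmk.mpr hb'.2, mul_one]⟩
      inv_mem' := fun {a} ha => ⟨inv_mem ha.1, by rw [inv_pow]; exact inv_mem ha.2⟩ }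
  haveI hUn : U.Normal := ⟨fun a ha g => ⟨hEconj g a ha.1, by
    rw [conj_pow]; exact (inferInstance : C.Normal).conj_mem _ ha.2 g⟩⟩
  have hUnc : ¬ U ≤ C := fun e => hx₁C (e ⟨hx₁E, hx₁q⟩)
  -- elements of U commuting with U are central
  have hZU : ∀ x ∈ U, (∀ y ∈ U, x * y = y * x) → x ∈ C := by
    intro x hx hxy
    let A : Subgroup Γ := U ⊓ Subgroup.centralizer (U : Set Γ)
    have hA : A.Normal := Subgroup.normal_inf_normal _ _
    have := hab A hA (fun a ha b hb' => (Subgroup.mem_centralizer_iff.mp ha.2 b hb'.1).symm)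
      (show x ∈ A from ⟨hx, Subgroup.mem_centralizer_iff.mpr fun y hy => (hxy y hy).symm⟩)
    rwa [hC]
  -- the module
  let Ubar : Subgroup (Γ ⧸ C) := U.map mk
  have hbarcomm : ∀ a b : Ubar, a * b = b * a := by
    rintro ⟨_, a, ha, rfl⟩ ⟨_, b, hb', rfl⟩
    exact Subtype.ext (ha.1.2 b hb'.1.1)
  letI : CommGroup Ubar := { Subgroup.toGroup Ubar with mul_comm := hbarcomm }
  haveI : Finite Ubar := inferInstance
  set n := Module.finrank k V with hn
  -- representatives are independent operators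
  have hle : Nat.card Ubar ≤ n * n := by
    haveI := Fintype.ofFinite Ubar
    have hsec : ∀ a : Ubar, ∃ e ∈ U, mk e = a.1 := fun a => a.2
    choose e heU he using hsec
    have hcc : ∀ (y : U) (a : Ubar), ⁅y.1, e a⁆ ∈ C := fun y a =>
      hcomm.mpr (y.2.1.2 (e a) (heU a).1.1)
    have hμ : ∀ (y : U) (a : Ubar), ∃ μ : k, ρ ⁅y.1, e a⁆ = μ • 1 := fun y a => h.scalar (hC ▸ hcc y a)
    choose μ hμ using hμ
    have hli := card_weights_le (V := Module.End k V) (ι := Ubar)
      (fun y : U => (LinearMap.mulLeft k (ρ y.1)).comp (LinearMap.mulRight k (ρ y.1⁻¹))) (fun a y => μ y a)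
      (fun a => ⟨ρ (e a), fun e0 => by
        obtain ⟨v, hv⟩ := h.nontrivial
        exact hv (Setup.rho_injective (e a) (by rw [e0, LinearMap.zero_apply, LinearMap.zero_apply])),
        fun y => by
          show ρ y.1 * (ρ (e a) * ρ y.1⁻¹) = μ y a • ρ (e a)
          have e1 : ρ y.1 * (ρ (e a) * ρ y.1⁻¹) = ρ ⁅y.1, e a⁆ * ρ (e a) := by
            rw [← map_mul, ← map_mul, ← map_mul]; congr 1; rw [commutatorElement_def]; group
          rw [e1, hμ, smul_mul_assoc, one_mul]⟩)
      (fun a b hab' => by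
        apply Subtype.ext
        rw [← he a, ← he b]
        have hab2 : ∀ y : U, ⁅y.1, e a⁆ = ⁅y.1, e b⁆ := fun y =>
          h.inj (by rw [hμ, hμ, show μ y a = μ y b from congrFun hab' y])
        have hd0 : (e b)⁻¹ * e a ∈ C := by
          refine hZU _ (mul_mem (inv_mem (heU b)) (heU a)) fun y hy => ?_
          have h1 := hab2 ⟨y, hy⟩
          have h2 := hcent (hcc ⟨y, hy⟩ b)
          simp only at h1 h2
          have ea : y * e a * y⁻¹ = ⁅y, e a⁆ * e a := by rw [commutatorElement_def]; group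
          have eb : y * e b * y⁻¹ = ⁅y, e b⁆ * e b := by rw [commutatorElement_def]; group
          rw [h1] at ea
          have h3 : y * ((e b)⁻¹ * e a) * y⁻¹ = (e b)⁻¹ * e a := by
            calc y * ((e b)⁻¹ * e a) * y⁻¹ = (y * e b * y⁻¹)⁻¹ * (y * e a * y⁻¹) := by group
              _ = _ := by rw [ea, eb]; group
          exact (mul_inv_eq_iff_eq_mul.mp h3).symm
        rw [← hmk, map_mul, map_inv, inv_mul_eq_one] at hd0
        exact hd0.symm)
    rw [Module.finrank_linearMap, ← hn] at hli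
    rwa [Nat.card_eq_fintype_card]
  -- the action
  have hUbar : ∀ (g : Γ) (a : Ubar), mk g * a.1 * (mk g)⁻¹ ∈ Ubar := fun g a => by
    obtain ⟨b, hb', e⟩ := a.2
    exact ⟨g * b * g⁻¹, hUn.conj_mem b hb' g, by simp [← e]⟩
  let act : Γ →* MulAut Ubar :=
    { toFun := fun g =>
        { toFun := fun a => ⟨mk g * a.1 * (mk g)⁻¹, hUbar g a⟩
          invFun := fun a => ⟨mk g⁻¹ * a.1 * (mk g⁻¹)⁻¹, hUbar g⁻¹ a⟩
          left_inv := fun a => Subtype.ext (by simp only [map_inv]; group)
          right_inv := fun a => Subtype.ext (by simp only [map_inv]; group)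
          map_mul' := fun a a' => Subtype.ext (by simp only [Subgroup.coe_mul]; group) }
      map_one' := MulEquiv.ext fun a => Subtype.ext (show mk 1 * a.1 * (mk 1)⁻¹ = a.1 by simp)
      map_mul' := fun g g' => MulEquiv.ext fun a => Subtype.ext
        (show mk (g * g') * a.1 * (mk (g * g'))⁻¹ = mk g * (mk g' * a.1 * (mk g')⁻¹) * (mk g)⁻¹ by
          rw [map_mul]; group) }
  have hact : act ≠ 1 := by
    intro e
    refine hUnc fun x hx => ?_
    have hcx : ∀ g, ⁅g, x⁆ ∈ C := fun g => hcomm.mpr (by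
      have h1 : (act g ⟨mk x, x, hx, rfl⟩).1 = mk x := by rw [e]; rfl
      exact mul_inv_eq_iff_eq_mul.mp h1)
    let c : Γ →* Γ :=
      { toFun := fun g => ⁅g, x⁆
        map_one' := by simp
        map_mul' := fun g g' => by
          rw [show ⁅g * g', x⁆ = g * ⁅g', x⁆ * g⁻¹ * ⁅g, x⁆ by simp only [commutatorElement_def]; group,
            hcent (hcx g') g, mul_inv_cancel_right, hcent (hcx g') ⁅g, x⁆] }
    have hc1 := h.minimal.hom_eq_one (θ := c) fun a b => hcent (hcx b) _
    rw [hC, Subgroup.mem_center_iff]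
    exact fun g => commutatorElement_eq_one_iff_mul_comm.mp (DFunLike.congr_fun hc1 g)
  obtain ⟨d, hcard, Θ, hΘ⟩ := exists_linear_rep q (fun a : Ubar => by
    obtain ⟨b, hb', e⟩ := a.2
    exact Subtype.ext (by rw [Subgroup.coe_pow, ← e, ← map_pow]; exact hmk.mpr hb'.2)) act hact
  let K := AlgebraicClosure (ZMod q)
  let φ : Γ →* Module.End K (Fin d → K) :=
    (Matrix.toLinAlgEquiv' (R := K) (n := Fin d)).toMulEquiv.toMonoidHom.comp
      (((algebraMap (ZMod q) K).mapMatrix).toMonoidHom.comp Θ)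
  have hφ : φ ≠ 1 := fun e => hΘ (MonoidHom.ext fun g => by
    have h1 : ((algebraMap (ZMod q) K).mapMatrix) (Θ g) = 1 :=
      (Matrix.toLinAlgEquiv' (R := K) (n := Fin d)).injective ((DFunLike.congr_fun e g).trans (map_one _).symm)
    exact Matrix.map_injective (algebraMap (ZMod q) K).injective
      (h1.trans (map_one ((algebraMap (ZMod q) K).mapMatrix)).symm))
  by_cases hdn : d < n
  · have := (hb d hdn Γ f h.minimal K (Fin d → K) φ hφ (Module.finrank_fin_fun K)).le_add_two
    omega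
  · exfalso
    rw [hcard] at hle
    have hq2 : 2 ^ d ≤ q ^ d := Nat.pow_le_pow_left hq.two_le d
    have hnd : 2 ^ n ≤ 2 ^ d := Nat.pow_le_pow_right (by norm_num) (by omega)
    have hn4 : n ≤ 4 := by
      by_contra hn5
      have := two_pow_gt n (by omega)
      omega
    have h16 : n * n ≤ 16 := Nat.mul_le_mul hn4 hn4
    have hd4 : d ≤ 4 := by
      by_contra hd5
      have : 2 ^ 5 ≤ 2 ^ d := Nat.pow_le_pow_right (by norm_num) (by omega)
      omega
    have h1 := h.minimal.card_le hΘ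
    have h2 : Nat.card (Matrix (Fin d) (Fin d) (ZMod q)) = (q ^ d) ^ d := by
      show Nat.card (Fin d → Fin d → ZMod q) = _
      rw [Nat.card_fun, Nat.card_fun, Nat.card_zmod, Nat.card_eq_fintype_card, Fintype.card_fin]
    have h3 : (q ^ d) ^ d ≤ 16 ^ 4 := by
      have : 1 ≤ q ^ d := Nat.one_le_pow _ _ hq.pos
      exact (Nat.pow_le_pow_left (by omega) d).trans (Nat.pow_le_pow_right (by norm_num) hd4)
    have h4 := h.minimal.two_card
    have h5 : Nat.factorial 9 ≤ r.factorial := Nat.factorial_le h.nine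
    rw [show Nat.factorial 9 = 362880 from rfl] at h5
    rw [h2] at h1
    omega

end Cfsg.Lib.AltMinDim
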