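import Mathlib
import Cfsg.Agent.Known.AltMinDim.Extraspecial

/-!
# Reduction to faithful irreducible representations
-/

set_option autoImplicit false
set_option linter.unusedSectionVars false
set_option linter.style.haveILetI false

namespace Cfsg.Lib.AltMinDim

variable {r : ℕ} {Γ : Type} [Group Γ] [Finite Γ] {k : Type} [Field k] [IsAlgClosed k]
  {V : Type} [AddCommGroup V] [Module k V] [FiniteDimensional k V]
  {f : Γ →* Alt r} {ρ : Γ →* Module.End k V}

theorem Faithful.bound (h : Faithful f ρ) (ih : ∀ m, 9 ≤ m → m < r → Main m)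
    (hb : BelowDim r (Module.finrank k V)) : Bound k r (Module.finrank k V) := by
  by_cases hab : ∃ A : Subgroup Γ, A.Normal ∧ (∀ a ∈ A, ∀ b ∈ A, a * b = b * a) ∧ ¬ A ≤ Subgroup.center Γ
  · obtain ⟨A, hA, hab, hnc⟩ := hab
    exact Or.inl ((h.bound_of_abelian A hab hnc).trans (Nat.le_succ _))
  push Not at hab
  by_cases hc : f.ker ≤ Subgroup.center Γ
  · have hperf := h.minimal.perfect
    have h9 := h.nine
    have hcard : Nat.card f.ker ≤ 2 := Schur.Alt.card_le (n := r) (by omega) (by omega) (by omega) f.ker hc
      (by rw [hperf]; exact le_top) (QuotientGroup.quotientKerEquivOfSurjective f h.minimal.surj)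
    have hs : Setup f ρ := ⟨⟨h.minimal.surj, hc, hperf, fun z hz => by
      have h1 : (⟨z, hz⟩ : f.ker) ^ Nat.card f.ker = 1 := pow_card_eq_one'
      have h0 : 0 < Nat.card f.ker := Nat.card_pos
      have h2 := congrArg Subtype.val h1
      rcases (show Nat.card f.ker = 1 ∨ Nat.card f.ker = 2 by omega) with e | e
      · rw [e] at h2
        have : z = 1 := by simpa using h2
        rw [this, one_pow]
      · rw [e] at h2
        simpa using h2⟩, h.inj, h.irred, h.nine⟩
    exact hs.bound ih
  · exact Or.inl (h.bound_of_not_central hb hab hc)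

theorem bound_minimal (hr : 9 ≤ r) (ih : ∀ m, 9 ≤ m → m < r → Main m) (n : ℕ) :
    BelowDim r n := by
  induction n with
  | zero => intro m hm; omega
  | succ n hb =>
    intro m hm
    rcases Nat.lt_succ_iff_lt_or_eq.mp hm with hm | rfl
    · exact hb m hm
    intro Γ _ _ f hmin k _ _ W _ _ _ φ hφ hdim
    by_cases hirr : ∀ U : Submodule k W, (∀ g, ∀ w ∈ U, φ g w ∈ U) → U = ⊥ ∨ U = ⊤
    · -- faithful quotient
      have hne : φ.ker ≠ ⊤ := fun e => hφ (MonoidHom.ext fun g => (e ▸ Subgroup.mem_top g : g ∈ φ.ker))
      have hle := hmin.le_ker hne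
      let φ' : Γ ⧸ φ.ker →* Module.End k W := QuotientGroup.lift φ.ker φ le_rfl
      have hF : Faithful (QuotientGroup.lift φ.ker f hle) φ' := by
        refine ⟨hmin.of_quotient φ.ker hle, fun a b e => ?_, fun U hU => hirr U fun g w hw => hU g w hw, hr⟩
        obtain ⟨a, rfl⟩ := QuotientGroup.mk_surjective a
        obtain ⟨b, rfl⟩ := QuotientGroup.mk_surjective b
        rw [QuotientGroup.eq, MonoidHom.mem_ker, map_mul, ← show φ a = φ b from e, ← map_mul, inv_mul_cancel,
          map_one]
      have := hF.bound ih (hdim ▸ hb)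
      rwa [hdim] at this
    push Not at hirr
    obtain ⟨U, hU, hbot, htop⟩ := hirr
    let φU : Γ →* Module.End k U :=
      { toFun := fun g => (φ g).restrict (hU g)
        map_one' := LinearMap.ext fun w => Subtype.ext (by simp)
        map_mul' := fun a b => LinearMap.ext fun w => Subtype.ext (by simp) }
    by_cases hU1 : φU = 1
    · let φQ : Γ →* Module.End k (W ⧸ U) :=
        { toFun := fun g => U.mapQ U (φ g) (hU g)
          map_one' := LinearMap.ext fun w => by
            obtain ⟨w, rfl⟩ := U.mkQ_surjective w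
            simp
          map_mul' := fun a b => LinearMap.ext fun w => by
            obtain ⟨w, rfl⟩ := U.mkQ_surjective w
            simp }
      by_cases hQ1 : φQ = 1
      · refine absurd (hmin.hom_eq_one (θ := φ) fun a b => LinearMap.ext fun w => ?_) hφ
        have hmem : ∀ g v, φ g v - v ∈ U := fun g v => by
          have := LinearMap.congr_fun (DFunLike.congr_fun hQ1 g) (Submodule.Quotient.mk v)
          exact (Submodule.Quotient.eq U).mp this
        have hfix : ∀ g, ∀ v ∈ U, φ g v = v := fun g v hv =>
          congrArg Subtype.val (LinearMap.congr_fun (DFunLike.congr_fun hU1 g) ⟨v, hv⟩)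
        have h1 := hfix a _ (hmem b w)
        have h2 := hfix b _ (hmem a w)
        rw [map_sub] at h1 h2
        show φ a (φ b w) = φ b (φ a w)
        calc φ a (φ b w) = φ a (φ b w) - φ a w + φ a w := by abel
          _ = φ b w - w + φ a w := by rw [h1]
          _ = φ a w - w + φ b w := by abel
          _ = φ b (φ a w) - φ b w + φ b w := by rw [h2]
          _ = φ b (φ a w) := by abel
      · have hlt : Module.finrank k (W ⧸ U) < m := by
          have h1 := U.finrank_quotient_add_finrank
          have h2 : 0 < Module.finrank k U := Nat.pos_of_ne_zero fun e => hbot (Submodule.finrank_eq_zero.mp e)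
          omega
        exact (hb _ hlt Γ f hmin k (W ⧸ U) φQ hQ1 rfl).mono hlt.le
    · have hlt : Module.finrank k U < m := hdim ▸ Submodule.finrank_lt htop
      exact (hb _ hlt Γ f hmin k U φU hU1 rfl).mono hlt.le

theorem main (r : ℕ) (hr : 9 ≤ r) : Main r := by
  induction r using Nat.strong_induction_on with
  | _ r ih =>
    intro Δ _ _ f hf k _ _ W _ _ _ φ hφ
    obtain ⟨H, hH⟩ := exists_minimal_subgroup (by omega) f hf
    refine bound_minimal hr (fun m h9 hlt => ih m hlt h9) (Module.finrank k W + 1) _ (Nat.lt_succ_self _) H _ hH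
      k W (φ.comp H.subtype) (fun e => hH.nontriv (MonoidHom.ext fun g => hφ g.1 (DFunLike.congr_fun e g))) rfl

end Cfsg.Lib.AltMinDim
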